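import Cfsg.Agent.NSEAlt.Basic

/-!
The numbers of elements of each order in the alternating groups of degree four, five and six.
-/

set_option autoImplicit false
set_option maxHeartbeats 1000000

namespace Cfsg.Agent.NSEAlt

open Cfsg.Agent.NSEThree (cnt cnt_one cnt_pos)

theorem cnt_eq_filter {A : Type*} [Group A] [Fintype A] [DecidableEq A] {m c : ℕ} (P : A → Prop) [DecidablePred P]
    (h : ∀ g, orderOf g = m ↔ P g) (hc : (Finset.univ.filter P).card = c) : cnt A m = c := by
  rw [← hc, cnt, Nat.card_congr (Equiv.subtypeEquivRight h), Nat.card_eq_fintype_card, Fintype.card_subtype]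

theorem orderOf_iff_prime {A : Type*} [Group A] {p : ℕ} (hp : p.Prime) (g : A) :
    orderOf g = p ↔ g ^ p = 1 ∧ g ≠ 1 := by
  have := Fact.mk hp
  exact ⟨fun h => ⟨h ▸ pow_orderOf_eq_one g, fun e => hp.ne_one (by rw [← h, e, orderOf_one])⟩,
    fun h => orderOf_eq_prime h.1 h.2⟩

theorem orderOf_iff_four {A : Type*} [Group A] (g : A) : orderOf g = 4 ↔ g ^ 4 = 1 ∧ g ^ 2 ≠ 1 := by
  refine ⟨fun h => ⟨h ▸ pow_orderOf_eq_one g, fun e => ?_⟩, fun h => ?_⟩
  · have := orderOf_dvd_of_pow_eq_one e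
    rw [h] at this
    norm_num at this
  · exact orderOf_eq_prime_pow (p := 2) (n := 1) (by simpa using h.2) (by simpa using h.1)

theorem alt4_exp : ∀ g : alternatingGroup (Fin 4), g ^ 2 = 1 ∨ g ^ 3 = 1 := by decide +kernel

theorem alt5_exp : ∀ g : alternatingGroup (Fin 5), g ^ 2 = 1 ∨ g ^ 3 = 1 ∨ g ^ 5 = 1 := by decide +kernel

theorem alt6_exp : ∀ g : alternatingGroup (Fin 6), g ^ 2 = 1 ∨ g ^ 3 = 1 ∨ g ^ 4 = 1 ∨ g ^ 5 = 1 := by
  decide +kernel

theorem orderOf_mem_of_prime {A : Type*} [Group A] {g : A} {p : ℕ} (hp : p.Prime) (h : g ^ p = 1) :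
    orderOf g = 1 ∨ orderOf g = p :=
  (Nat.dvd_prime hp).1 (orderOf_dvd_of_pow_eq_one h)

theorem sig_four : Sig (alternatingGroup (Fin 4)) {1, 3, 8} := by
  have c2 : cnt (alternatingGroup (Fin 4)) 2 = 3 :=
    cnt_eq_filter (fun g => g ^ 2 = 1 ∧ g ≠ 1) (orderOf_iff_prime Nat.prime_two) (by decide +kernel)
  have c3 : cnt (alternatingGroup (Fin 4)) 3 = 8 :=
    cnt_eq_filter (fun g => g ^ 3 = 1 ∧ g ≠ 1) (orderOf_iff_prime Nat.prime_three) (by decide +kernel)
  refine ⟨fun x => ?_, fun v hv => ?_⟩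
  · have : orderOf x = 1 ∨ orderOf x = 2 ∨ orderOf x = 3 := by
      rcases alt4_exp x with e | e
      · exact (orderOf_mem_of_prime Nat.prime_two e).imp id Or.inl
      · exact (orderOf_mem_of_prime Nat.prime_three e).imp id Or.inr
    rcases this with e | e | e <;> rw [e] <;> simp [cnt_one, c2, c3]
  · have w : ∀ m c, cnt (alternatingGroup (Fin 4)) m = c → 0 < c → ∃ x : alternatingGroup (Fin 4), cnt (alternatingGroup (Fin 4)) (orderOf x) = c := by
      intro m c h h0
      obtain ⟨x, hx⟩ := exists_of_cnt_ne (G := alternatingGroup (Fin 4)) (m := m) (h.symm ▸ h0.ne')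
      exact ⟨x, hx ▸ h⟩
    simp only [Finset.mem_insert, Finset.mem_singleton] at hv
    rcases hv with rfl | rfl | rfl
    · exact w 1 1 cnt_one one_pos
    · exact w 2 3 c2 (by norm_num)
    · exact w 3 8 c3 (by norm_num)

theorem exists_of_value {A : Type*} [Group A] [Finite A] (m c : ℕ) (h : cnt A m = c) (h0 : 0 < c) :
    ∃ x : A, cnt A (orderOf x) = c := by
  obtain ⟨x, hx⟩ := exists_of_cnt_ne (m := m) (G := A) (h.symm ▸ h0.ne')
  exact ⟨x, hx ▸ h⟩

theorem sig_five : Sig (alternatingGroup (Fin 5)) {1, 15, 20, 24} := by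
  have c2 : cnt (alternatingGroup (Fin 5)) 2 = 15 :=
    cnt_eq_filter (fun g => g ^ 2 = 1 ∧ g ≠ 1) (orderOf_iff_prime Nat.prime_two) (by decide +kernel)
  have c3 : cnt (alternatingGroup (Fin 5)) 3 = 20 :=
    cnt_eq_filter (fun g => g ^ 3 = 1 ∧ g ≠ 1) (orderOf_iff_prime Nat.prime_three) (by decide +kernel)
  have c5 : cnt (alternatingGroup (Fin 5)) 5 = 24 :=
    cnt_eq_filter (fun g => g ^ 5 = 1 ∧ g ≠ 1) (orderOf_iff_prime (by norm_num)) (by decide +kernel)
  refine ⟨fun x => ?_, fun v hv => ?_⟩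
  · have : orderOf x = 1 ∨ orderOf x = 2 ∨ orderOf x = 3 ∨ orderOf x = 5 := by
      rcases alt5_exp x with e | e | e
      · rcases orderOf_mem_of_prime Nat.prime_two e with e | e <;> simp [e]
      · rcases orderOf_mem_of_prime Nat.prime_three e with e | e <;> simp [e]
      · rcases orderOf_mem_of_prime (by norm_num) e with e | e <;> simp [e]
    rcases this with e | e | e | e <;> rw [e] <;> simp [cnt_one, c2, c3, c5]
  · simp only [Finset.mem_insert, Finset.mem_singleton] at hv
    rcases hv with rfl | rfl | rfl | rfl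
    · exact exists_of_value 1 1 cnt_one one_pos
    · exact exists_of_value 2 15 c2 (by norm_num)
    · exact exists_of_value 3 20 c3 (by norm_num)
    · exact exists_of_value 5 24 c5 (by norm_num)

theorem sig_six : Sig (alternatingGroup (Fin 6)) {1, 45, 80, 90, 144} := by
  have c2 : cnt (alternatingGroup (Fin 6)) 2 = 45 :=
    cnt_eq_filter (fun g => g ^ 2 = 1 ∧ g ≠ 1) (orderOf_iff_prime Nat.prime_two) (by decide +kernel)
  have c3 : cnt (alternatingGroup (Fin 6)) 3 = 80 :=
    cnt_eq_filter (fun g => g ^ 3 = 1 ∧ g ≠ 1) (orderOf_iff_prime Nat.prime_three) (by decide +kernel)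
  have c4 : cnt (alternatingGroup (Fin 6)) 4 = 90 :=
    cnt_eq_filter (fun g => g ^ 4 = 1 ∧ g ^ 2 ≠ 1) orderOf_iff_four (by decide +kernel)
  have c5 : cnt (alternatingGroup (Fin 6)) 5 = 144 :=
    cnt_eq_filter (fun g => g ^ 5 = 1 ∧ g ≠ 1) (orderOf_iff_prime (by norm_num)) (by decide +kernel)
  refine ⟨fun x => ?_, fun v hv => ?_⟩
  · have : orderOf x = 1 ∨ orderOf x = 2 ∨ orderOf x = 3 ∨ orderOf x = 4 ∨ orderOf x = 5 := by
      rcases alt6_exp x with e | e | e | e
      · rcases orderOf_mem_of_prime Nat.prime_two e with e | e <;> simp [e]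
      · rcases orderOf_mem_of_prime Nat.prime_three e with e | e <;> simp [e]
      · have h4 : orderOf x ∣ 2 ^ 2 := orderOf_dvd_of_pow_eq_one e
        obtain ⟨k, hk, he⟩ := (Nat.dvd_prime_pow Nat.prime_two).1 h4
        interval_cases k <;> simp [he]
      · rcases orderOf_mem_of_prime (by norm_num) e with e | e <;> simp [e]
    rcases this with e | e | e | e | e <;> rw [e] <;> simp [cnt_one, c2, c3, c4, c5]
  · simp only [Finset.mem_insert, Finset.mem_singleton] at hv
    rcases hv with rfl | rfl | rfl | rfl | rfl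
    · exact exists_of_value 1 1 cnt_one one_pos
    · exact exists_of_value 2 45 c2 (by norm_num)
    · exact exists_of_value 3 80 c3 (by norm_num)
    · exact exists_of_value 4 90 c4 (by norm_num)
    · exact exists_of_value 5 144 c5 (by norm_num)

end Cfsg.Agent.NSEAlt
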