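import Mathlib
import Cfsg.Agent.NSEThree.Basic
import Cfsg.Agent.Core.FrobeniusGroup
import Cfsg.Agent.SmallOrder.Elements

/-!
Groups with prescribed sets of numbers of elements of each order: counting tools.
-/

set_option autoImplicit false

namespace Cfsg.Agent.NSEAlt

open Subgroup
open Cfsg.Agent.NSEThree (cnt cnt_one cnt_pos totient_dvd_cnt dvd_sum_cnt)

variable {G : Type*} [Group G] [Finite G]

/-- The set of values is `S`. -/
structure Sig (G : Type*) [Group G] (S : Finset ℕ) : Prop where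
  mem : ∀ x : G, cnt G (orderOf x) ∈ S
  ex : ∀ v ∈ S, ∃ x : G, cnt G (orderOf x) = v

omit [Finite G] in
theorem sig_of_image {A : Type*} [Group A] {S : Finset ℕ}
    (h : ((fun m : ℕ => Nat.card {g : G // orderOf g = m}) '' Set.range (orderOf : G → ℕ)) =
      ((fun m : ℕ => Nat.card {g : A // orderOf g = m}) '' Set.range (orderOf : A → ℕ)))
    (hA : Sig A S) : Sig G S := by
  refine ⟨fun x => ?_, fun v hv => ?_⟩
  · have hm := Set.mem_image_of_mem (fun m : ℕ => Nat.card {g : G // orderOf g = m}) (Set.mem_range_self (f := orderOf) x)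
    rw [h] at hm
    obtain ⟨_, ⟨y, rfl⟩, hy⟩ := hm
    exact (show cnt A (orderOf y) = cnt G (orderOf x) from hy) ▸ hA.mem y
  · obtain ⟨y, hy⟩ := hA.ex v hv
    have hm := Set.mem_image_of_mem (fun m : ℕ => Nat.card {g : A // orderOf g = m}) (Set.mem_range_self (f := orderOf) y)
    rw [← h] at hm
    obtain ⟨_, ⟨x, rfl⟩, hx⟩ := hm
    exact ⟨x, (show cnt G (orderOf x) = cnt A (orderOf y) from hx).trans hy⟩

theorem exists_of_cnt_ne {m : ℕ} (h : cnt G m ≠ 0) : ∃ x : G, orderOf x = m := by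
  obtain ⟨⟨⟨x, hx⟩⟩, -⟩ := Nat.card_pos_iff.1 (Nat.pos_of_ne_zero h)
  exact ⟨x, hx⟩

theorem dvd_card_of_cnt_ne {m : ℕ} (h : cnt G m ≠ 0) : m ∣ Nat.card G := by
  obtain ⟨x, rfl⟩ := exists_of_cnt_ne h
  exact orderOf_dvd_natCard x

theorem cnt_eq_zero_of_dvd {d m : ℕ} (hm : 0 < m) (hd : d ∣ m) (h : cnt G d = 0) : cnt G m = 0 := by
  by_contra hne
  obtain ⟨x, rfl⟩ := exists_of_cnt_ne hne
  exact (cnt_pos (G := G) (g := x ^ (orderOf x / d)) (orderOf_pow_orderOf_div hm.ne' hd)).ne' h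

theorem not_dvd_orderOf {d : ℕ} (h : cnt G d = 0) (x : G) : ¬ d ∣ orderOf x := fun hd =>
  (cnt_pos (G := G) (g := x) rfl).ne' (cnt_eq_zero_of_dvd (orderOf_pos x) hd h)

theorem cnt_ne_of_prime {p : ℕ} (hp : p.Prime) (h : p ∣ Nat.card G) : cnt G p ≠ 0 := by
  have := Fact.mk hp
  obtain ⟨x, hx⟩ := exists_prime_orderOf_dvd_card' p h
  exact (cnt_pos hx).ne'

theorem Sig.val {S : Finset ℕ} (h : Sig G S) (m : ℕ) :
    cnt G m = 0 ∨ cnt G m ∈ S.filter (fun v => m.totient ∣ v) := by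
  by_cases h0 : cnt G m = 0
  · exact Or.inl h0
  · obtain ⟨x, rfl⟩ := exists_of_cnt_ne h0
    exact Or.inr (Finset.mem_filter.2 ⟨h.mem x, totient_dvd_cnt _⟩)

theorem Sig.two {S : Finset ℕ} (h : Sig G S) {v : ℕ} (hv : v ∈ S) (hodd : ¬ 2 ∣ v) (h1 : v ≠ 1) :
    cnt G 2 = v := by
  obtain ⟨x, hx⟩ := h.ex v hv
  rcases Nat.lt_or_ge 2 (orderOf x) with hlt | hle
  · exact absurd ((Nat.totient_even hlt).two_dvd.trans (hx ▸ totient_dvd_cnt (G := G) (orderOf x))) hodd
  · rcases Nat.eq_or_lt_of_le hle with e | e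
    · rw [← e]; exact hx
    · have := orderOf_pos x
      rw [show orderOf x = 1 by omega, cnt_one] at hx
      exact absurd hx.symm h1

theorem Sig.prime {S : Finset ℕ} (h : Sig G S) {p : ℕ} (hp : p.Prime) (hd : p ∣ Nat.card G) :
    ∃ v ∈ S, (p - 1) ∣ v ∧ p ∣ 1 + v ∧ cnt G p = v := by
  obtain ⟨hS, hphi⟩ := Finset.mem_filter.1 ((h.val p).resolve_left (cnt_ne_of_prime hp hd))
  refine ⟨_, hS, Nat.totient_prime hp ▸ hphi, ?_, rfl⟩
  have := dvd_sum_cnt (G := G) hd
  rwa [NSEThree.sum_prime _ hp, cnt_one] at this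

theorem Sig.primes {S T : Finset ℕ} {B : ℕ} (h : Sig G S) (hB : ∀ v ∈ S, v < B)
    (hdec : ∀ p < B + 1, p.Prime → (∃ v ∈ S, (p - 1) ∣ v ∧ p ∣ 1 + v) → p ∈ T)
    {p : ℕ} (hp : p.Prime) (hd : p ∣ Nat.card G) : p ∈ T := by
  obtain ⟨v, hv, h1, h2, -⟩ := h.prime hp hd
  refine hdec p ?_ hp ⟨v, hv, h1, h2⟩
  have := Nat.le_of_dvd (by omega) h2
  have := hB v hv
  omega

theorem orderOf_dvd_of {N : ℕ} (x : G) (h : ∀ p k : ℕ, p.Prime → p ^ k ∣ orderOf x → p ^ k ∣ N) :
    orderOf x ∣ N :=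
  (Nat.dvd_iff_prime_pow_dvd_dvd _ _).2 h

theorem pow_bound {p k j : ℕ} (h : cnt G (p ^ (k + 1)) = 0) {x : G} (hj : p ^ j ∣ orderOf x) : j ≤ k := by
  by_contra hc
  exact not_dvd_orderOf h x ((pow_dvd_pow p (by omega)).trans hj)

theorem sum_eq_card (L : Finset ℕ) (h : ∀ x : G, orderOf x ∈ L) : Nat.card G = ∑ m ∈ L, cnt G m := by
  classical
  have := Fintype.ofFinite G
  simp only [cnt, Nat.card_eq_fintype_card, Fintype.card_subtype]
  exact Finset.card_eq_sum_card_fiberwise fun x _ => h x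

theorem sum_le_card (L : Finset ℕ) : ∑ m ∈ L, cnt G m ≤ Nat.card G := by
  classical
  have := Fintype.ofFinite G
  simp only [cnt, Nat.card_eq_fintype_card, Fintype.card_subtype]
  rw [← Finset.card_biUnion]
  · exact Finset.card_le_univ _
  · intro i _ j _ hij
    exact Finset.disjoint_filter.2 fun g _ h1 h2 => hij (h1.symm.trans h2)

/-- Orbits of a `p`-group without centralized elements. -/
theorem dvd_card_of_invariant {p : ℕ} (hp : p.Prime) {P : Subgroup G} (hP : IsPGroup p P) (Q : G → Prop)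
    (hinv : ∀ k ∈ P, ∀ g, Q g → Q (k * g * k⁻¹))
    (hfree : ∀ k g : G, orderOf k = p → Q g → ¬ Commute k g) : Nat.card P ∣ Nat.card {g : G // Q g} := by
  classical
  have := Fact.mk hp
  let act : MulAction P {g : G // Q g} :=
    { smul := fun k g => ⟨(k : G) * g * (k : G)⁻¹, hinv k k.2 g g.2⟩
      one_smul := fun g => Subtype.ext (show ((1 : P) : G) * g * ((1 : P) : G)⁻¹ = g by simp)
      mul_smul := fun k l g => Subtype.ext (show ((k * l : P) : G) * g * ((k * l : P) : G)⁻¹ =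
        (k : G) * ((l : G) * g * (l : G)⁻¹) * (k : G)⁻¹ by push_cast; group) }
  refine Core.card_dvd_of_free fun g => eq_bot_iff.2 fun k hk => mem_bot.2 ?_
  by_contra hk1
  obtain ⟨n, hn⟩ := IsPGroup.iff_orderOf.1 hP k
  have hn0 : n ≠ 0 := by
    rintro rfl
    rw [pow_zero, orderOf_eq_one_iff] at hn
    exact hk1 hn
  have hd : p ∣ orderOf (k : G) := by rw [Subgroup.orderOf_coe, hn]; exact dvd_pow_self p hn0
  have hc : Commute (k : G) g := by
    have := congrArg Subtype.val hk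
    change (k : G) * g * (k : G)⁻¹ = g at this
    exact mul_inv_eq_iff_eq_mul.1 this
  exact hfree _ g (orderOf_pow_orderOf_div (orderOf_pos _).ne' hd) g.2 (hc.pow_left _)

theorem no_commute_of_cnt {p m : ℕ} (hp : p.Prime) (hpm : ¬ p ∣ m) (h : cnt G (p * m) = 0) {k g : G}
    (hk : orderOf k = p) (hg : orderOf g = m) : ¬ Commute k g := fun hc => by
  refine (cnt_pos (G := G) (g := k * g) ?_).ne' h
  rw [hc.orderOf_mul_eq_mul_orderOf_of_coprime (by rw [hk, hg]; exact hp.coprime_iff_not_dvd.2 hpm), hk, hg]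

theorem pow_dvd_cnt {p k m : ℕ} (hp : p.Prime) (hk : p ^ k ∣ Nat.card G) (hpm : ¬ p ∣ m)
    (h : cnt G (p * m) = 0) : p ^ k ∣ cnt G m := by
  have := Fact.mk hp
  obtain ⟨P, hP⟩ := Sylow.exists_subgroup_card_pow_prime p hk
  rw [← hP]
  refine dvd_card_of_invariant hp (IsPGroup.of_card hP) _ (fun k _ g hg => ?_)
    fun k g hk hg => no_commute_of_cnt hp hpm h hk hg
  rw [show k * g * k⁻¹ = MulAut.conj k g from rfl, MulEquiv.orderOf_eq]
  exact hg

/-- A cyclic Sylow subgroup makes the subgroups of order `p` conjugate. -/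
theorem isConj_zpowers {p : ℕ} [hp : Fact p.Prime] (P : Sylow p G) (hP : IsCyclic (P : Subgroup G))
    {x y : G} (hx : orderOf x = p) (hy : orderOf y = p) : ∃ g : G, g * x * g⁻¹ ∈ zpowers y := by
  obtain ⟨P₁, hP₁⟩ := (IsPGroup.of_card (n := 1) (by rw [Nat.card_zpowers, hx, pow_one]) :
    IsPGroup p (zpowers x)).exists_le_sylow
  obtain ⟨P₂, hP₂⟩ := (IsPGroup.of_card (n := 1) (by rw [Nat.card_zpowers, hy, pow_one]) :
    IsPGroup p (zpowers y)).exists_le_sylow
  obtain ⟨g, hg⟩ := MulAction.exists_smul_eq G P₁ P₂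
  have hc2 : IsCyclic (P₂ : Subgroup G) := (MulEquiv.isCyclic (P.equiv P₂)).1 hP
  have hmem : g * x * g⁻¹ ∈ (P₂ : Subgroup G) := by
    rw [← hg, Sylow.coe_subgroup_smul]
    exact Coprime.conj_mem_conj_smul (hP₁ (mem_zpowers x))
  refine ⟨g, ?_⟩
  exact Fusion.mem_zpowers_of_orderOf_dvd hc2 hmem (hP₂ (mem_zpowers y))
    (by rw [show g * x * g⁻¹ = MulAut.conj g x from rfl, MulEquiv.orderOf_eq, hx, hy])

/-- All elements of order `p` carry equally many commuting elements of order `m`. -/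
theorem cnt_dvd_cnt_mul {p m : ℕ} [hp : Fact p.Prime] (hpm : ¬ p ∣ m) (hm : 0 < m)
    (P : Sylow p G) (hP : IsCyclic (P : Subgroup G)) : cnt G p ∣ cnt G (p * m) := by
  classical
  have := Fintype.ofFinite G
  let f : {x : G // orderOf x = p} → ℕ := fun x => Nat.card {y : G // orderOf y = m ∧ Commute (x : G) y}
  have hle : ∀ x z : {x : G // orderOf x = p}, f x ≤ f z := by
    intro x z
    obtain ⟨g, hg⟩ := isConj_zpowers P hP z.2 x.2
    refine Nat.card_le_card_of_injective (fun y => ⟨g⁻¹ * y * g, ?_, ?_⟩) fun y y' e => ?_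
    · rw [show g⁻¹ * (y : G) * g = MulAut.conj g⁻¹ y by simp, MulEquiv.orderOf_eq]
      exact y.2.1
    · obtain ⟨i, hi⟩ := mem_zpowers_iff.1 hg
      have hc : Commute (g * (z : G) * g⁻¹) y := hi ▸ y.2.2.zpow_left i
      have := hc.map (MulAut.conj g⁻¹).toMonoidHom
      simpa [mul_assoc] using this
    · exact Subtype.ext (mul_left_cancel (mul_right_cancel (congrArg Subtype.val e)))
  obtain ⟨j, -, hj⟩ := Nat.exists_mul_mod_eq_one_of_coprime
    ((hp.out.coprime_iff_not_dvd.2 hpm).symm) hp.out.one_lt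
  have hsigma : cnt G (p * m) = ∑ x : {x : G // orderOf x = p}, f x := by
    rw [← Nat.card_sigma]
    refine (Nat.card_congr (Equiv.ofBijective
      (fun z : Σ x : {x : G // orderOf x = p}, {y : G // orderOf y = m ∧ Commute (x : G) y} =>
        (⟨(z.1 : G) * z.2, by
          rw [z.2.2.2.orderOf_mul_eq_mul_orderOf_of_coprime
            (by rw [z.1.2, z.2.2.1]; exact hp.out.coprime_iff_not_dvd.2 hpm), z.1.2, z.2.2.1]⟩ :
          {w : G // orderOf w = p * m})) ⟨?_, ?_⟩)).symm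
    · rintro ⟨⟨x, hx⟩, y, hy, hc⟩ ⟨⟨x', hx'⟩, y', hy', hc'⟩ e
      have e1 : x * y = x' * y' := congrArg Subtype.val e
      have e2 := congrArg (fun t : G => t ^ (m * j)) e1
      simp only [hc.mul_pow, hc'.mul_pow] at e2
      rw [pow_eq_pow_mod (m * j) (hx ▸ pow_orderOf_eq_one x), hj, pow_one, pow_mul, ← hy, pow_orderOf_eq_one,
        one_pow, mul_one, hy, pow_eq_pow_mod (m * j) (hx' ▸ pow_orderOf_eq_one x'), hj, pow_one,
        pow_mul, ← hy', pow_orderOf_eq_one, one_pow, mul_one] at e2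
      subst e2
      obtain rfl := mul_left_cancel e1
      rfl
    · rintro ⟨w, hw⟩
      obtain ⟨u, v, hu, hv, hcomm, huv⟩ : ∃ u v : G, orderOf u = p ∧ orderOf v = m ∧ Commute u v ∧ u * v = w := by
        obtain ⟨i, -, hi⟩ := Nat.exists_mul_mod_eq_one_of_coprime
          ((hp.out.coprime_iff_not_dvd.2 hpm).symm) hp.out.one_lt
        have hu : orderOf (w ^ (m * i)) = p := by
          refine orderOf_eq_prime ?_ fun e1 => ?_
          · rw [← pow_mul, mul_right_comm, mul_comm m p, ← hw, pow_mul, pow_orderOf_eq_one, one_pow]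
          · have h2 : p ∣ m * i := (dvd_mul_right p m).trans (hw ▸ orderOf_dvd_of_pow_eq_one e1)
            rw [Nat.dvd_iff_mod_eq_zero, hi] at h2
            exact one_ne_zero h2
        have hcm : Commute (w ^ (m * i)) ((w ^ (m * i))⁻¹ * w) :=
          ((Commute.refl (w ^ (m * i))).inv_right).mul_right (Commute.pow_self w _)
        have hvd : orderOf ((w ^ (m * i))⁻¹ * w) ∣ m := by
          refine orderOf_dvd_of_pow_eq_one ?_
          rw [((Commute.pow_self w (m * i)).inv_left).mul_pow, inv_pow, ← pow_mul, ← pow_mod_orderOf w (m * i * m),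
            hw, Nat.mul_mod_mul_right, hi, one_mul, inv_mul_cancel]
        refine ⟨w ^ (m * i), (w ^ (m * i))⁻¹ * w, hu, ?_, hcm, mul_inv_cancel_left _ _⟩
        have := hcm.orderOf_mul_eq_mul_orderOf_of_coprime
          (by rw [hu]; exact Nat.Coprime.coprime_dvd_right hvd (hp.out.coprime_iff_not_dvd.2 hpm))
        rw [mul_inv_cancel_left, hw, hu] at this
        exact (Nat.eq_of_mul_eq_mul_left hp.out.pos this).symm
      exact ⟨⟨⟨u, hu⟩, v, hv, hcomm⟩, Subtype.ext huv⟩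
  rw [hsigma]
  obtain hem | hne := isEmpty_or_nonempty {x : G // orderOf x = p}
  · simp
  · obtain x₀ := Classical.arbitrary {x : G // orderOf x = p}
    rw [Finset.sum_congr rfl fun x _ => le_antisymm (hle x x₀) (hle x₀ x), Finset.sum_const, Finset.card_univ,
      smul_eq_mul, ← Nat.card_eq_fintype_card]
    exact dvd_mul_right _ _

theorem pow_eq_one_of_commute {p : ℕ} (hp : p.Prime) (hsq : cnt G (p ^ 2) = 0)
    (hcross : ∀ s : ℕ, s.Prime → s ∣ Nat.card G → s ≠ p → cnt G (p * s) = 0)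
    {y g : G} (hy : orderOf y = p) (hc : Commute y g) : g ^ p = 1 := by
  refine orderOf_dvd_iff_pow_eq_one.1 (orderOf_dvd_of g fun s k hs hk => ?_)
  rcases eq_or_ne s p with rfl | hsp
  · exact (pow_dvd_pow s (pow_bound (k := 1) hsq hk)).trans (pow_one s).dvd
  · rcases Nat.eq_zero_or_pos k with rfl | hk0
    · simp
    exfalso
    have hsd : s ∣ orderOf g := (dvd_pow_self s hk0.ne').trans hk
    exact no_commute_of_cnt hp (fun hd => hsp ((Nat.prime_dvd_prime_iff_eq hp hs).1 hd).symm)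
      (hcross s hs (hsd.trans (orderOf_dvd_natCard g)) hsp) hy (orderOf_pow_orderOf_div (orderOf_pos g).ne' hsd)
      (hc.pow_right _)

/-- A self-centralizing Sylow subgroup of prime order. -/
theorem sylow_bound {p : ℕ} [hp : Fact p.Prime] (hd : p ∣ Nat.card G) (hsq : ¬ p ^ 2 ∣ Nat.card G)
    (hC : ∀ y g : G, orderOf y = p → Commute y g → g ^ p = 1) :
    ∃ n, n * (p - 1) = cnt G p ∧ n ∣ Nat.card G ∧ Nat.card G ∣ n * (p * (p - 1)) := by
  have hP : ∀ P : Sylow p G, Nat.card (P : Subgroup G) = p := by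
    intro P
    obtain ⟨k, hk⟩ := IsPGroup.iff_card.1 P.isPGroup'
    have h1 := P.dvd_card_of_dvd_card hd
    have h2 : p ^ k ∣ Nat.card G := hk ▸ card_subgroup_dvd_card _
    rcases Nat.lt_or_ge k 2 with hk2 | hk2
    · rcases Nat.eq_zero_or_pos k with rfl | hk0
      · rw [hk, pow_zero, Nat.dvd_one] at h1
        exact absurd h1 hp.out.ne_one
      · rw [hk, show k = 1 by omega, pow_one]
    · exact absurd ((pow_dvd_pow p hk2).trans h2) hsq
  let P : Sylow p G := default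
  obtain ⟨c, hc⟩ := exists_prime_orderOf_dvd_card' (G := (P : Subgroup G)) p (hP P).symm.dvd
  have hcp : IsPGroup p (centralizer ((P : Subgroup G) : Set G)) := fun g => ⟨1, Subtype.ext (by
    simpa using hC (c : G) g (by rw [Subgroup.orderOf_coe, hc]) (mem_centralizer_iff.1 g.2 _ c.2))⟩
  obtain ⟨k, hk⟩ := IsPGroup.iff_card.1 hcp
  have hk1 : k ≤ 1 := by
    by_contra hk2
    exact hsq ((pow_dvd_pow p (by omega : 2 ≤ k)).trans (hk ▸ card_subgroup_dvd_card _))
  obtain ⟨e, he, hN, -⟩ := SmallOrder.exists_normalizer_index (P : Subgroup G)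
  rw [SmallOrder.card_mulAut_of_prime (hP P)] at he
  refine ⟨Nat.card (Sylow p G), (SmallOrder.card_orderOf_eq_mul hP).symm, ?_, ?_⟩
  · rw [P.card_eq_index_normalizer]
    exact index_dvd_card _
  · rw [← (normalizer ((P : Subgroup G) : Set G)).card_mul_index,
      show (normalizer ((P : Subgroup G) : Set G)).index = Nat.card (Sylow p G) from P.card_eq_index_normalizer.symm,
      hN, mul_comm]
    refine Nat.mul_dvd_mul_left _ (Nat.mul_dvd_mul ?_ he)
    rw [hk]
    exact (pow_dvd_pow p hk1).trans (pow_one p).dvd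

omit [Finite G] in
theorem cnt_subgroup (N : Subgroup G) (m : ℕ) : cnt N m = Nat.card {g : G // g ∈ N ∧ orderOf g = m} :=
  Nat.card_congr
    { toFun := fun g => ⟨g.1, g.1.2, (Subgroup.orderOf_coe _).trans g.2⟩
      invFun := fun g => ⟨⟨g.1, g.2.1⟩, by rw [Subgroup.orderOf_mk]; exact g.2.2⟩
      left_inv := fun _ => rfl
      right_inv := fun _ => rfl }

theorem dvd_cnt_normal {p m : ℕ} [hp : Fact p.Prime] (hd : p ∣ Nat.card G) (N : Subgroup G) [hN : N.Normal]
    (hpm : ¬ p ∣ m) (h : cnt G (p * m) = 0) : p ∣ cnt N m := by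
  obtain ⟨P, hP⟩ := Sylow.exists_subgroup_card_pow_prime p ((pow_one p).symm ▸ hd)
  rw [cnt_subgroup, ← pow_one p, ← hP]
  refine dvd_card_of_invariant hp.out (IsPGroup.of_card hP) _ (fun k _ g hg => ⟨hN.conj_mem g hg.1 k, ?_⟩)
    fun k g hk hg => no_commute_of_cnt hp.out hpm h hk hg.2
  rw [show k * g * k⁻¹ = MulAut.conj k g from rfl, MulEquiv.orderOf_eq]
  exact hg.2

theorem card_normal_mod {p : ℕ} [hp : Fact p.Prime] (hd : p ∣ Nat.card G) (N : Subgroup G) [hN : N.Normal]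
    (hpN : ¬ p ∣ Nat.card N) (hC : ∀ y g : G, orderOf y = p → Commute y g → g ^ p = 1) :
    p ∣ Nat.card N - 1 := by
  classical
  obtain ⟨P, hP⟩ := Sylow.exists_subgroup_card_pow_prime p ((pow_one p).symm ▸ hd)
  have h := dvd_card_of_invariant hp.out (IsPGroup.of_card hP) (fun g => g ∈ N ∧ g ≠ 1)
    (fun k _ g hg => ⟨hN.conj_mem g hg.1 k, fun e => hg.2 (by simpa using e)⟩)
    fun k g hk hg hc => hpN ?_
  · have e : Nat.card {g : G // g ∈ N ∧ g ≠ 1} = Nat.card N - 1 := by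
      have := Fintype.ofFinite N
      rw [show Nat.card {g : G // g ∈ N ∧ g ≠ 1} = Nat.card {g : N // g ≠ 1} from Nat.card_congr
        { toFun := fun g => ⟨⟨g.1, g.2.1⟩, fun e => g.2.2 (congrArg Subtype.val e)⟩
          invFun := fun g => ⟨g.1.1, g.1.2, fun e => g.2 (Subtype.ext e)⟩
          left_inv := fun _ => rfl
          right_inv := fun _ => rfl },
        Nat.card_eq_fintype_card, Nat.card_eq_fintype_card, Fintype.card_subtype_compl, Fintype.card_subtype_eq]
    rwa [e, hP, pow_one] at h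
  · have := orderOf_eq_prime (hC k g hk hc) hg.2
    exact this ▸ (Subgroup.orderOf_mk g hg.1 ▸ orderOf_dvd_natCard (⟨g, hg.1⟩ : N))

theorem mem_of_coprime_index (N : Subgroup G) [N.Normal] {r : ℕ} (hr : r.Coprime N.index) {g : G}
    (hg : orderOf g = r) : g ∈ N := by
  rw [← QuotientGroup.eq_one_iff, ← orderOf_eq_one_iff]
  exact Nat.eq_one_of_dvd_coprimes hr (hg ▸ orderOf_map_dvd (QuotientGroup.mk' N) g)
    (N.index_eq_card ▸ orderOf_dvd_natCard _)

theorem cnt_le_normal (N : Subgroup G) [N.Normal] {r : ℕ} (hr : r.Coprime N.index) : cnt G r = cnt N r := by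
  rw [cnt_subgroup]
  exact Nat.card_congr (Equiv.subtypeEquivRight fun g => ⟨fun hg => ⟨mem_of_coprime_index N hr hg, hg⟩, And.right⟩)

theorem Sig.val_of {S : Finset ℕ} (h : Sig G S) {m : ℕ} {L : Finset ℕ}
    (hdec : S.filter (fun v => m.totient ∣ v) = L) : cnt G m = 0 ∨ cnt G m ∈ L := hdec ▸ h.val m

theorem Sig.zero {S : Finset ℕ} (h : Sig G S) {m : ℕ} (hdec : S.filter (fun v => m.totient ∣ v) = ∅) :
    cnt G m = 0 :=
  (h.val_of hdec).resolve_right (Finset.notMem_empty _)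

/-- With a cyclic Sylow subgroup of order `p ^ 2` every element of order `p` has `p` roots. -/
theorem root_bound {p : ℕ} [hp : Fact p.Prime] (h2 : cnt G (p ^ 2) ≠ 0) (h3 : ¬ p ^ 3 ∣ Nat.card G) :
    cnt G p * p ≤ cnt G (p ^ 2) := by
  obtain ⟨x, hx⟩ := exists_of_cnt_ne h2
  obtain ⟨P, hP⟩ := (IsPGroup.of_card (n := 2) (by rw [Nat.card_zpowers, hx]) :
    IsPGroup p (zpowers x)).exists_le_sylow
  have hPx : (P : Subgroup G) = zpowers x := by
    refine (eq_of_le_of_card_ge hP ?_).symm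
    obtain ⟨k, hk⟩ := IsPGroup.iff_card.1 P.isPGroup'
    rw [hk, Nat.card_zpowers, hx]
    refine Nat.pow_le_pow_right hp.out.pos ?_
    by_contra hc
    exact h3 ((pow_dvd_pow p (by omega : 3 ≤ k)).trans (hk ▸ card_subgroup_dvd_card _))
  have hcyc : IsCyclic (P : Subgroup G) := hPx ▸ inferInstance
  have hxp : orderOf (x ^ p) = p := by
    rw [orderOf_pow' x hp.out.ne_zero, hx, Nat.gcd_eq_right (dvd_pow_self p two_ne_zero),
      Nat.div_eq_of_eq_mul_left hp.out.pos (sq p)]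
  have hroot : ∀ z : {z : G // orderOf z = p}, ∃ r : G, orderOf r = p ^ 2 ∧ r ^ p = z := by
    intro z
    obtain ⟨g, hg⟩ := isConj_zpowers P hcyc z.2 hxp
    obtain ⟨i, hi⟩ := mem_zpowers_iff.1 hg
    have hzeq : g * (z : G) * g⁻¹ = (x ^ i) ^ p := by
      rw [← hi, ← zpow_natCast x p, ← zpow_mul, ← zpow_natCast (x ^ i) p, ← zpow_mul, mul_comm]
    refine ⟨g⁻¹ * x ^ i * g, ?_, ?_⟩
    · rw [show g⁻¹ * x ^ i * g = MulAut.conj g⁻¹ (x ^ i) by simp, MulEquiv.orderOf_eq]
      have hz1 : (x ^ i) ^ p ≠ 1 := fun e => by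
        rw [e] at hzeq
        have := z.2
        rw [show (z : G) = 1 by simpa using hzeq, orderOf_one] at this
        exact hp.out.ne_one this.symm
      refine orderOf_eq_prime_pow (n := 1) (by simpa using hz1) ?_
      rw [← zpow_natCast, ← zpow_mul, mul_comm, zpow_mul, zpow_natCast, ← hx, pow_orderOf_eq_one, one_zpow]
    · rw [show g⁻¹ * x ^ i * g = MulAut.conj g⁻¹ (x ^ i) by simp, ← map_pow, ← hzeq]
      simp [mul_assoc]
  choose r hr hrp using hroot
  let F : {z : G // orderOf z = p} × Fin p → {w : G // orderOf w = p ^ 2} := fun u =>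
    ⟨r u.1 * (u.1 : G) ^ (u.2 : ℕ), by
      rw [← hrp u.1, ← pow_mul, ← pow_succ', Nat.Coprime.orderOf_pow, hr]
      rw [hr]
      refine Nat.Coprime.pow_left 2 ((hp.out.coprime_iff_not_dvd).2 fun hd => ?_)
      exact hp.out.not_dvd_one ((Nat.dvd_add_right (dvd_mul_right p _)).1 hd)⟩
  have hF : Function.Injective F := by
    rintro ⟨z, i⟩ ⟨z', i'⟩ e
    have e1 : r z * (z : G) ^ (i : ℕ) = r z' * (z' : G) ^ (i' : ℕ) := congrArg Subtype.val e
    have hp1 : ∀ (z : {z : G // orderOf z = p}) (j : ℕ), (r z * (z : G) ^ j) ^ p = z := by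
      intro z j
      have hc : Commute (r z) ((z : G) ^ j) := by
        rw [← hrp z, ← pow_mul]
        exact Commute.self_pow _ _
      rw [hc.mul_pow, hrp z, ← pow_mul, mul_comm j p, pow_mul,
        show (z : G) ^ p = 1 from orderOf_dvd_iff_pow_eq_one.1 z.2.dvd, one_pow, mul_one]
    have e2 : (z : G) = z' := by rw [← hp1 z i, e1, hp1 z' i']
    obtain rfl : z = z' := Subtype.ext e2
    obtain rfl : i = i' := Fin.ext (pow_injOn_Iio_orderOf (by rw [Set.mem_Iio, z.2]; exact i.2)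
      (by rw [Set.mem_Iio, z.2]; exact i'.2) (mul_left_cancel e1))
    rfl
  have := Nat.card_le_card_of_injective F hF
  rwa [Nat.card_prod, Nat.card_fin] at this

/-- With a cyclic Sylow 2-subgroup the involutions form one class. -/
theorem cnt_two_dvd_card [hp : Fact (Nat.Prime 2)] (P : Sylow 2 G) (hP : IsCyclic (P : Subgroup G))
    (h : cnt G 2 ≠ 0) : cnt G 2 ∣ Nat.card G := by
  obtain ⟨y, hy⟩ := exists_of_cnt_ne h
  have hset : MulAction.orbit (ConjAct G) y = {g : G | orderOf g = 2} := by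
    ext g
    simp only [MulAction.mem_orbit_iff, Set.mem_ofPred_eq]
    constructor
    · rintro ⟨c, rfl⟩
      rw [ConjAct.smul_def]
      exact (MulEquiv.orderOf_eq (MulAut.conj (ConjAct.ofConjAct c)) y).trans hy
    · intro hg
      obtain ⟨c, hc⟩ := isConj_zpowers P hP hy hg
      refine ⟨ConjAct.toConjAct c, ?_⟩
      rw [ConjAct.smul_def, ConjAct.ofConjAct_toConjAct]
      obtain ⟨i, hi⟩ := mem_zpowers_iff.1 hc
      rw [← hi, ← zpow_mod_orderOf, hg]
      rcases Int.emod_two_eq_zero_or_one i with h0 | h0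
      · exfalso
        rw [← zpow_mod_orderOf, hg, Nat.cast_ofNat, h0, zpow_zero] at hi
        rw [show y = 1 by simpa using hi.symm, orderOf_one] at hy
        norm_num at hy
      · rw [Nat.cast_ofNat, h0, zpow_one]
  have e : cnt G 2 = (MulAction.stabilizer (ConjAct G) y).index := by
    rw [MulAction.index_stabilizer, hset, ← Nat.card_coe_set_eq]
    rfl
  rw [e]
  exact index_dvd_card _

end Cfsg.Agent.NSEAlt
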