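import Cfsg.Agent.NSEAlt.Basic
import Cfsg.Agent.Classical.SmallSimple

/-!
A group with the values 1, 15, 20 and 24 is alternating of degree five.
-/

set_option autoImplicit false

namespace Cfsg.Agent.NSEAlt

open Subgroup
open Cfsg.Agent.NSEThree (cnt cnt_one cnt_pos totient_dvd_cnt dvd_sum_cnt)

universe u

variable {G : Type u} [Group G] [Finite G]

theorem five_two (h : Sig G {1, 15, 20, 24}) : cnt G 2 = 15 ∧ 2 ∣ Nat.card G := by
  have c2 : cnt G 2 = 15 := h.two (by decide) (by decide) (by decide)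
  exact ⟨c2, dvd_card_of_cnt_ne (by omega)⟩

theorem five_primes (h : Sig G {1, 15, 20, 24}) {p : ℕ} (hp : p.Prime) (hd : p ∣ Nat.card G) :
    p = 2 ∨ p = 3 ∨ p = 5 := by
  simpa using h.primes (T := {2, 3, 5}) (B := 25) (by decide) (by decide +kernel) hp hd

theorem five_three (h : Sig G {1, 15, 20, 24}) (hd : 3 ∣ Nat.card G) : cnt G 3 = 20 := by
  obtain ⟨v, hv, h1, h2, h3⟩ := h.prime Nat.prime_three hd
  simp only [Finset.mem_insert, Finset.mem_singleton] at hv
  omega

theorem five_five (h : Sig G {1, 15, 20, 24}) (hd : 5 ∣ Nat.card G) : cnt G 5 = 24 := by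
  obtain ⟨v, hv, h1, h2, h3⟩ := h.prime (by norm_num) hd
  simp only [Finset.mem_insert, Finset.mem_singleton] at hv
  omega

theorem five_orders (h : Sig G {1, 15, 20, 24}) (x : G) :
    orderOf x ∣ 16 * 9 * 25 := by
  refine orderOf_dvd_of x fun p k hp hk => ?_
  rcases Nat.eq_zero_or_pos k with rfl | hk0
  · simp
  rcases five_primes h hp (((dvd_pow_self p hk0.ne').trans hk).trans (orderOf_dvd_natCard x)) with rfl | rfl | rfl
  · exact (pow_dvd_pow 2 (pow_bound (k := 4) (h.zero (by decide +kernel)) hk)).trans (by norm_num)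
  · exact (pow_dvd_pow 3 (pow_bound (k := 2) (h.zero (by decide +kernel)) hk)).trans (by norm_num)
  · exact (pow_dvd_pow 5 (pow_bound (k := 2) (h.zero (by decide +kernel)) hk)).trans (by norm_num)

theorem five_no25 (h : Sig G {1, 15, 20, 24}) : cnt G 25 = 0 := by
  by_contra hne
  have hd := dvd_card_of_cnt_ne hne
  have hv : cnt G 25 = 20 := by simpa [hne] using h.val_of (m := 25) (L := {20}) (by decide +kernel)
  have hs := dvd_sum_cnt (G := G) hd
  rw [show (25 : ℕ).divisors = {1, 5, 25} by decide +kernel, Finset.sum_insert (by decide),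
    Finset.sum_pair (by decide), cnt_one, five_five h ((show (5 : ℕ) ∣ 25 by norm_num).trans hd), hv] at hs
  omega

theorem five_not_two_group (h : Sig G {1, 15, 20, 24}) : 3 ∣ Nat.card G ∨ 5 ∣ Nat.card G := by
  by_contra hc
  push Not at hc
  obtain ⟨h3, h5⟩ := hc
  obtain ⟨c2, -⟩ := five_two h
  have hL : ∀ x : G, orderOf x ∈ ({1, 2, 4, 8, 16} : Finset ℕ) := by
    intro x
    have key : ∀ m ∈ (16 * 9 * 25 : ℕ).divisors, ¬ 3 ∣ m → ¬ 5 ∣ m → m ∈ ({1, 2, 4, 8, 16} : Finset ℕ) := by
      decide +kernel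
    exact key _ (Nat.mem_divisors.2 ⟨five_orders h x, by norm_num⟩) (fun e => h3 (e.trans (orderOf_dvd_natCard x)))
      (fun e => h5 (e.trans (orderOf_dvd_natCard x)))
  have hsum := sum_eq_card _ hL
  rw [Finset.sum_insert (by decide), Finset.sum_insert (by decide), Finset.sum_insert (by decide),
    Finset.sum_pair (by decide), cnt_one, c2] at hsum
  have v4 : cnt G 4 = 0 ∨ cnt G 4 = 20 ∨ cnt G 4 = 24 := by simpa using h.val_of (m := 4) (L := {20, 24}) (by decide +kernel)
  have v8 : cnt G 8 = 0 ∨ cnt G 8 = 20 ∨ cnt G 8 = 24 := by simpa using h.val_of (m := 8) (L := {20, 24}) (by decide +kernel)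
  have v16 : cnt G 16 = 0 ∨ cnt G 16 = 24 := by simpa using h.val_of (m := 16) (L := {24}) (by decide +kernel)
  have h7 : ¬ 7 ∣ Nat.card G := fun hd => by
    have := five_primes h (p := 7) (by norm_num) hd
    omega
  have occ : ∀ v ∈ ({20, 24} : Finset ℕ), cnt G 4 = v ∨ cnt G 8 = v ∨ cnt G 16 = v := by
    intro v hv
    obtain ⟨x, hx⟩ := h.ex v (by revert hv; simp only [Finset.mem_insert, Finset.mem_singleton]; omega)
    simp only [Finset.mem_insert, Finset.mem_singleton] at hv
    have := hL x
    simp only [Finset.mem_insert, Finset.mem_singleton] at this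
    rcases this with e | e | e | e | e <;> rw [e] at hx
    · rw [cnt_one] at hx; omega
    · omega
    · exact Or.inl hx
    · exact Or.inr (Or.inl hx)
    · exact Or.inr (Or.inr hx)
  have := occ 20 (by simp)
  have := occ 24 (by simp)
  omega

theorem five_three_dvd (h : Sig G {1, 15, 20, 24}) : 3 ∣ Nat.card G := by
  by_contra h3
  have h5 : 5 ∣ Nat.card G := (five_not_two_group h).resolve_left h3
  have := Fact.mk (show Nat.Prime 5 by norm_num)
  obtain ⟨c2, -⟩ := five_two h
  have c5 := five_five h h5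
  have c25 := five_no25 h
  have h25 : 25 ∣ Nat.card G := by
    by_contra hc
    have hP : ∀ P : Sylow 5 G, Nat.card (P : Subgroup G) = 5 := by
      intro P
      obtain ⟨k, hk⟩ := IsPGroup.iff_card.1 P.isPGroup'
      have h1 := P.dvd_card_of_dvd_card h5
      have h2 : 5 ^ k ∣ Nat.card G := hk ▸ card_subgroup_dvd_card _
      rcases Nat.lt_or_ge k 2 with hk2 | hk2
      · interval_cases k
        · rw [hk] at h1; norm_num at h1
        · rw [hk, pow_one]
      · exact absurd ((pow_dvd_pow 5 hk2).trans h2) hc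
    have hn := SmallOrder.card_orderOf_eq_mul hP
    change cnt G 5 = _ at hn
    let P : Sylow 5 G := default
    have hd : Nat.card (Sylow 5 G) ∣ Nat.card G := P.card_eq_index_normalizer ▸ index_dvd_card _
    rw [show Nat.card (Sylow 5 G) = 6 by omega] at hd
    exact h3 ((show (3 : ℕ) ∣ 6 by norm_num).trans hd)
  have hL : ∀ x : G, orderOf x ∈ ({1, 2, 4, 5, 8, 10, 16, 20, 40, 80} : Finset ℕ) := by
    intro x
    have key : ∀ m ∈ (16 * 9 * 25 : ℕ).divisors, ¬ 3 ∣ m → ¬ 25 ∣ m →
        m ∈ ({1, 2, 4, 5, 8, 10, 16, 20, 40, 80} : Finset ℕ) := by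
      decide +kernel
    exact key _ (Nat.mem_divisors.2 ⟨five_orders h x, by norm_num⟩) (fun e => h3 (e.trans (orderOf_dvd_natCard x)))
      (not_dvd_orderOf c25 x)
  have hsum := sum_eq_card _ hL
  rw [Finset.sum_insert (by decide), Finset.sum_insert (by decide), Finset.sum_insert (by decide),
    Finset.sum_insert (by decide), Finset.sum_insert (by decide), Finset.sum_insert (by decide),
    Finset.sum_insert (by decide), Finset.sum_insert (by decide), Finset.sum_pair (by decide), cnt_one, c2, c5,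
    h.zero (m := 40) (by decide +kernel), h.zero (m := 80) (by decide +kernel)] at hsum
  have v4 : cnt G 4 = 0 ∨ cnt G 4 = 20 ∨ cnt G 4 = 24 := by simpa using h.val_of (m := 4) (L := {20, 24}) (by decide +kernel)
  have v8 : cnt G 8 = 0 ∨ cnt G 8 = 20 ∨ cnt G 8 = 24 := by simpa using h.val_of (m := 8) (L := {20, 24}) (by decide +kernel)
  have v10 : cnt G 10 = 0 ∨ cnt G 10 = 20 ∨ cnt G 10 = 24 := by simpa using h.val_of (m := 10) (L := {20, 24}) (by decide +kernel)
  have v16 : cnt G 16 = 0 ∨ cnt G 16 = 24 := by simpa using h.val_of (m := 16) (L := {24}) (by decide +kernel)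
  have v20 : cnt G 20 = 0 ∨ cnt G 20 = 24 := by simpa using h.val_of (m := 20) (L := {24}) (by decide +kernel)
  have d8 : cnt G 8 ≠ 0 → 8 ∣ Nat.card G := dvd_card_of_cnt_ne
  have z8 : cnt G 4 = 0 → cnt G 8 = 0 := cnt_eq_zero_of_dvd (by norm_num) (by norm_num)
  have z16 : cnt G 8 = 0 → cnt G 16 = 0 := cnt_eq_zero_of_dvd (by norm_num) (by norm_num)
  have r4 : cnt G 4 ≠ 0 → ¬ 8 ∣ Nat.card G → 30 ≤ cnt G 4 := fun e1 e2 => by
    have := Fact.mk Nat.prime_two
    have := root_bound (G := G) (p := 2) (by simpa using e1) (by simpa using e2)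
    rw [c2] at this
    simpa using this
  omega

theorem five_five_dvd (h : Sig G {1, 15, 20, 24}) : 5 ∣ Nat.card G := by
  by_contra h5
  have h3 := five_three_dvd h
  have := Fact.mk Nat.prime_three
  obtain ⟨c2, -⟩ := five_two h
  have c3 := five_three h h3
  have c27 : cnt G 27 = 0 := h.zero (by decide +kernel)
  have v9 : cnt G 9 = 0 ∨ cnt G 9 = 24 := by simpa using h.val_of (m := 9) (L := {24}) (by decide +kernel)
  have h27 : ¬ 27 ∣ Nat.card G := fun hd => by
    have hs := dvd_sum_cnt (G := G) hd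
    rw [show (27 : ℕ).divisors = {1, 3, 9, 27} by decide +kernel, Finset.sum_insert (by decide),
      Finset.sum_insert (by decide), Finset.sum_pair (by decide), cnt_one, c3, c27] at hs
    omega
  have c9 : cnt G 9 = 0 := by
    by_contra hne
    have := root_bound (G := G) (p := 3) (by simpa using hne) (by simpa using h27)
    rw [c3] at this
    rcases v9 with e | e
    · exact hne e
    · norm_num [e] at this
  have h9 : ¬ 9 ∣ Nat.card G := fun hd => by
    have hs := dvd_sum_cnt (G := G) hd
    rw [show (9 : ℕ).divisors = {1, 3, 9} by decide +kernel, Finset.sum_insert (by decide),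
      Finset.sum_pair (by decide), cnt_one, c3, c9] at hs
    omega
  have v6 : cnt G 6 = 0 ∨ cnt G 6 = 20 ∨ cnt G 6 = 24 := by simpa using h.val_of (m := 6) (L := {20, 24}) (by decide +kernel)
  obtain ⟨P⟩ : Nonempty (Sylow 3 G) := inferInstance
  have hP : Nat.card (P : Subgroup G) = 3 := by
    obtain ⟨k, hk⟩ := IsPGroup.iff_card.1 P.isPGroup'
    have h1 := P.dvd_card_of_dvd_card h3
    have h2 : 3 ^ k ∣ Nat.card G := hk ▸ card_subgroup_dvd_card _
    rcases Nat.lt_or_ge k 2 with hk2 | hk2
    · interval_cases k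
      · rw [hk] at h1; norm_num at h1
      · rw [hk, pow_one]
    · exact absurd ((pow_dvd_pow 3 hk2).trans h2) h9
  have c6 : cnt G 6 = 0 := by
    have := cnt_dvd_cnt_mul (G := G) (p := 3) (m := 2) (by norm_num) (by norm_num) P (isCyclic_of_prime_card hP)
    rw [c3] at this
    rcases v6 with e | e | e
    · exact e
    · exfalso
      have hs := dvd_sum_cnt (G := G) (dvd_card_of_cnt_ne (G := G) (m := 6) (by omega))
      rw [show (6 : ℕ).divisors = {1, 2, 3, 6} by decide +kernel, Finset.sum_insert (by decide),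
        Finset.sum_insert (by decide), Finset.sum_pair (by decide), cnt_one, c2, c3, e] at hs
      omega
    · exfalso
      simp only [show 3 * 2 = 6 from rfl, e] at this
      omega
  have hL : ∀ x : G, orderOf x ∈ ({1, 2, 3, 4, 8, 16} : Finset ℕ) := by
    intro x
    have key : ∀ m ∈ (16 * 9 * 25 : ℕ).divisors, ¬ 5 ∣ m → ¬ 9 ∣ m → ¬ 6 ∣ m →
        m ∈ ({1, 2, 3, 4, 8, 16} : Finset ℕ) := by
      decide +kernel
    exact key _ (Nat.mem_divisors.2 ⟨five_orders h x, by norm_num⟩) (fun e => h5 (e.trans (orderOf_dvd_natCard x)))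
      (not_dvd_orderOf c9 x) (not_dvd_orderOf c6 x)
  have hsum := sum_eq_card _ hL
  rw [Finset.sum_insert (by decide), Finset.sum_insert (by decide), Finset.sum_insert (by decide),
    Finset.sum_insert (by decide), Finset.sum_pair (by decide), cnt_one, c2, c3] at hsum
  have v4 : cnt G 4 = 0 ∨ cnt G 4 = 20 ∨ cnt G 4 = 24 := by simpa using h.val_of (m := 4) (L := {20, 24}) (by decide +kernel)
  have v8 : cnt G 8 = 0 ∨ cnt G 8 = 20 ∨ cnt G 8 = 24 := by simpa using h.val_of (m := 8) (L := {20, 24}) (by decide +kernel)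
  have v16 : cnt G 16 = 0 ∨ cnt G 16 = 24 := by simpa using h.val_of (m := 16) (L := {24}) (by decide +kernel)
  have h7 : ¬ 7 ∣ Nat.card G := fun hd => by
    have := five_primes h (p := 7) (by norm_num) hd
    omega
  have h13 : ¬ 13 ∣ Nat.card G := fun hd => by
    have := five_primes h (p := 13) (by norm_num) hd
    omega
  obtain ⟨x, hx⟩ := h.ex 24 (by decide)
  have occ : cnt G 4 = 24 ∨ cnt G 8 = 24 ∨ cnt G 16 = 24 := by
    have := hL x
    simp only [Finset.mem_insert, Finset.mem_singleton] at this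
    rcases this with e | e | e | e | e | e <;> rw [e] at hx
    · rw [cnt_one] at hx; omega
    · omega
    · omega
    · exact Or.inl hx
    · exact Or.inr (Or.inl hx)
    · exact Or.inr (Or.inr hx)
  have z8 : cnt G 4 = 0 → cnt G 8 = 0 := cnt_eq_zero_of_dvd (by norm_num) (by norm_num)
  have z16 : cnt G 8 = 0 → cnt G 16 = 0 := cnt_eq_zero_of_dvd (by norm_num) (by norm_num)
  omega

theorem five_card (h : Sig G {1, 15, 20, 24}) :
    Nat.card G = 60 ∧ cnt G 3 = 20 ∧ cnt G 5 = 24 ∧ cnt G 10 = 0 ∧
      ∀ y g : G, orderOf y = 5 → Commute y g → g ^ 5 = 1 := by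
  have h3 := five_three_dvd h
  have h5 := five_five_dvd h
  have := Fact.mk Nat.prime_three
  have := Fact.mk (show Nat.Prime 5 by norm_num)
  obtain ⟨c2, h2⟩ := five_two h
  have c3 := five_three h h3
  have c5 := five_five h h5
  have c15 : cnt G 15 = 0 := by
    by_contra hne
    have hv : cnt G 15 = 24 := by simpa [hne] using h.val_of (m := 15) (L := {24}) (by decide +kernel)
    have hs := dvd_sum_cnt (G := G) (dvd_card_of_cnt_ne hne)
    rw [show (15 : ℕ).divisors = {1, 3, 5, 15} by decide +kernel, Finset.sum_insert (by decide),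
      Finset.sum_insert (by decide), Finset.sum_pair (by decide), cnt_one, c3, c5, hv] at hs
    omega
  have h25 : ¬ 5 ^ 2 ∣ Nat.card G := fun hd => by
    have := pow_dvd_cnt (G := G) (m := 3) (by norm_num : Nat.Prime 5) hd (by norm_num) c15
    rw [c3] at this
    norm_num at this
  obtain ⟨P⟩ : Nonempty (Sylow 5 G) := inferInstance
  have hP : IsCyclic (P : Subgroup G) := by
    obtain ⟨k, hk⟩ := IsPGroup.iff_card.1 P.isPGroup'
    have h2 : 5 ^ k ∣ Nat.card G := hk ▸ card_subgroup_dvd_card _
    refine isCyclic_of_prime_card (p := 5) ?_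
    have h1 := P.dvd_card_of_dvd_card h5
    rcases Nat.lt_or_ge k 2 with hk2 | hk2
    · interval_cases k
      · rw [hk] at h1; norm_num at h1
      · rw [hk, pow_one]
    · exact absurd ((pow_dvd_pow 5 hk2).trans h2) h25
  have c10 : cnt G 10 = 0 := by
    have hd := cnt_dvd_cnt_mul (G := G) (p := 5) (m := 2) (by norm_num) (by norm_num) P hP
    rw [c5, show 5 * 2 = 10 from rfl] at hd
    rcases h.val_of (m := 10) (L := {20, 24}) (by decide +kernel) with e | e
    · exact e
    exfalso
    simp only [Finset.mem_insert, Finset.mem_singleton] at e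
    have hs := dvd_sum_cnt (G := G) (dvd_card_of_cnt_ne (G := G) (m := 10) (by omega))
    rw [show (10 : ℕ).divisors = {1, 2, 5, 10} by decide +kernel, Finset.sum_insert (by decide),
      Finset.sum_insert (by decide), Finset.sum_pair (by decide), cnt_one, c2, c5] at hs
    omega
  have hC : ∀ y g : G, orderOf y = 5 → Commute y g → g ^ 5 = 1 := fun y g hy hc => by
    refine pow_eq_one_of_commute (by norm_num) ?_ (fun s hs hd hne => ?_) hy hc
    · by_contra hne
      exact h25 (dvd_card_of_cnt_ne hne)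
    · rcases five_primes h hs hd with rfl | rfl | rfl
      · exact c10
      · exact c15
      · exact absurd rfl hne
  obtain ⟨n, hn, -, hG⟩ := sylow_bound (p := 5) h5 h25 hC
  rw [c5] at hn
  rw [show n = 6 by omega] at hG
  norm_num at hG
  have hle := Nat.le_of_dvd (by norm_num) hG
  obtain ⟨Q⟩ : Nonempty (Sylow 3 G) := inferInstance
  have h9 : ¬ 9 ∣ Nat.card G := fun hd => absurd (hd.trans hG) (by norm_num)
  have hQ : IsCyclic (Q : Subgroup G) := by
    obtain ⟨k, hk⟩ := IsPGroup.iff_card.1 Q.isPGroup'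
    refine isCyclic_of_prime_card (p := 3) ?_
    have h1 := Q.dvd_card_of_dvd_card h3
    have h2 : 3 ^ k ∣ Nat.card G := hk ▸ card_subgroup_dvd_card _
    rcases Nat.lt_or_ge k 2 with hk2 | hk2
    · interval_cases k
      · rw [hk] at h1; norm_num at h1
      · rw [hk, pow_one]
    · exact absurd ((pow_dvd_pow 3 hk2).trans h2) h9
  have c6 : cnt G 6 = 0 := by
    have hd := cnt_dvd_cnt_mul (G := G) (p := 3) (m := 2) (by norm_num) (by norm_num) Q hQ
    rw [c3, show 3 * 2 = 6 from rfl] at hd
    rcases h.val_of (m := 6) (L := {20, 24}) (by decide +kernel) with e | e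
    · exact e
    exfalso
    simp only [Finset.mem_insert, Finset.mem_singleton] at e
    have hs := dvd_sum_cnt (G := G) (dvd_card_of_cnt_ne (G := G) (m := 6) (by omega))
    rw [show (6 : ℕ).divisors = {1, 2, 3, 6} by decide +kernel, Finset.sum_insert (by decide),
      Finset.sum_insert (by decide), Finset.sum_pair (by decide), cnt_one, c2, c3] at hs
    omega
  have hL : ∀ x : G, orderOf x ∈ ({1, 2, 3, 4, 5, 8} : Finset ℕ) := by
    intro x
    have key : ∀ m ∈ (120 : ℕ).divisors, ¬ 6 ∣ m → ¬ 10 ∣ m → ¬ 15 ∣ m → m ∈ ({1, 2, 3, 4, 5, 8} : Finset ℕ) := by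
      decide +kernel
    exact key _ (Nat.mem_divisors.2 ⟨(orderOf_dvd_natCard x).trans hG, by norm_num⟩) (not_dvd_orderOf c6 x)
      (not_dvd_orderOf c10 x) (not_dvd_orderOf c15 x)
  have hsum := sum_eq_card _ hL
  rw [Finset.sum_insert (by decide), Finset.sum_insert (by decide), Finset.sum_insert (by decide),
    Finset.sum_insert (by decide), Finset.sum_pair (by decide), cnt_one, c2, c3, c5] at hsum
  have v4 : cnt G 4 = 0 ∨ cnt G 4 = 20 ∨ cnt G 4 = 24 := by simpa using h.val_of (m := 4) (L := {20, 24}) (by decide +kernel)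
  have v8 : cnt G 8 = 0 ∨ cnt G 8 = 20 ∨ cnt G 8 = 24 := by simpa using h.val_of (m := 8) (L := {20, 24}) (by decide +kernel)
  refine ⟨?_, c3, c5, c10, hC⟩
  have hall : Nat.card G = 60 ∨ Nat.card G = 120 := by
    obtain ⟨j, hj⟩ := hG
    have : 60 ≤ Nat.card G := by omega
    have : j ≤ 2 := by nlinarith
    interval_cases j <;> omega
  omega

theorem five_simple (h : Sig G {1, 15, 20, 24}) : IsSimpleGroup G := by
  obtain ⟨hG, c3, c5, c10, hC⟩ := five_card h
  have := Fact.mk (show Nat.Prime 5 by norm_num)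
  have h5 : 5 ∣ Nat.card G := by omega
  have hnt : Nontrivial G := Finite.one_lt_card_iff_nontrivial.1 (by omega)
  refine { eq_bot_or_eq_top_of_normal := fun N hN => ?_ }
  have hNG := card_subgroup_dvd_card N
  rw [hG] at hNG
  have hle := Nat.le_of_dvd (by norm_num) hNG
  have hpos : 0 < Nat.card N := Nat.card_pos
  by_cases h5N : 5 ∣ Nat.card N
  · refine Or.inr (eq_top_of_card_eq N ?_)
    rw [hG]
    have hidx : N.index * Nat.card N = 60 := by rw [mul_comm, N.card_mul_index, hG]
    have h5c : Nat.Coprime 5 N.index := (show Nat.Prime 5 by norm_num).coprime_iff_not_dvd.2 fun hd => by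
      have := mul_dvd_mul hd h5N
      rw [hidx] at this
      norm_num at this
    have e5 := cnt_le_normal N h5c
    have hsum := sum_le_card (G := N) {1, 5}
    rw [Finset.sum_pair (by decide), cnt_one, ← e5, c5] at hsum
    rcases eq_or_ne (Nat.card N) 30 with e30 | e30
    · exfalso
      have e3 := cnt_le_normal N (r := 3) (by rw [show N.index = 2 by rw [e30] at hidx; omega]; decide)
      have hs := sum_le_card (G := N) {1, 3, 5}
      rw [Finset.sum_insert (by decide), Finset.sum_pair (by decide), cnt_one, ← e3, ← e5, c3, c5, e30] at hs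
      omega
    · obtain ⟨j, hj⟩ := hNG
      have : j ≤ 2 := by nlinarith
      interval_cases j <;> omega
  · refine Or.inl (card_eq_one.1 ?_)
    have hm := card_normal_mod (p := 5) h5 N h5N hC
    have h6 : Nat.card N ≠ 6 := fun e6 => by
      have hd := dvd_cnt_normal (p := 5) h5 N (m := 2) (by norm_num) c10
      have := Fact.mk Nat.prime_three
      have hne3 := cnt_ne_of_prime (G := N) Nat.prime_three (by rw [e6]; norm_num)
      have hne2 := cnt_ne_of_prime (G := N) Nat.prime_two (by rw [e6]; norm_num)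
      have hs := sum_le_card (G := N) {1, 2, 3}
      rw [Finset.sum_insert (by decide), Finset.sum_pair (by decide), cnt_one, e6] at hs
      omega
    have key : ∀ d ∈ (60 : ℕ).divisors, ¬ 5 ∣ d → 5 ∣ d - 1 → d ≠ 6 → d = 1 := by decide +kernel
    exact key _ (Nat.mem_divisors.2 ⟨hNG, by norm_num⟩) h5N hm h6

/-- Recognition of the alternating group of degree five. -/
theorem iso_five (h : Sig G {1, 15, 20, 24}) : Nonempty (G ≃* alternatingGroup (Fin 5)) :=
  have := five_simple h
  Classical.Small.simple_sixty (five_card h).1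

end Cfsg.Agent.NSEAlt
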