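import Cfsg.Agent.NSEAlt.Basic

/-!
A group with the values one, three and eight is alternating of degree four.
-/

set_option autoImplicit false

namespace Cfsg.Agent.NSEAlt

open Subgroup
open Cfsg.Agent.NSEThree (cnt cnt_one cnt_pos totient_dvd_cnt dvd_sum_cnt)

universe u

variable {G : Type u} [Group G] [Finite G]

theorem four_card (h : Sig G {1, 3, 8}) :
    Nat.card G = 12 ∧ cnt G 3 = 8 := by
  have c2 : cnt G 2 = 3 := h.two (by decide) (by decide) (by decide)
  have hpr : ∀ p, p.Prime → p ∣ Nat.card G → p = 2 ∨ p = 3 := fun p hp hd => by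
    simpa using h.primes (T := {2, 3}) (B := 9) (by decide) (by decide +kernel) hp hd
  have v3 : cnt G 3 = 0 ∨ cnt G 3 = 8 := by simpa using h.val_of (m := 3) (L := {8}) (by decide +kernel)
  have v4 : cnt G 4 = 0 ∨ cnt G 4 = 8 := by simpa using h.val_of (m := 4) (L := {8}) (by decide +kernel)
  have v6 : cnt G 6 = 0 ∨ cnt G 6 = 8 := by simpa using h.val_of (m := 6) (L := {8}) (by decide +kernel)
  have v8 : cnt G 8 = 0 ∨ cnt G 8 = 8 := by simpa using h.val_of (m := 8) (L := {8}) (by decide +kernel)
  have v16 : cnt G 16 = 0 ∨ cnt G 16 = 8 := by simpa using h.val_of (m := 16) (L := {8}) (by decide +kernel)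
  have c9 : cnt G 9 = 0 := h.zero (by decide +kernel)
  have c32 : cnt G 32 = 0 := h.zero (by decide +kernel)
  have c6 : cnt G 6 = 0 := by
    by_contra hne
    have hd := dvd_card_of_cnt_ne hne
    have hs := dvd_sum_cnt (G := G) hd
    rw [show (6 : ℕ).divisors = {1, 2, 3, 6} by decide +kernel, Finset.sum_insert (by decide),
      Finset.sum_insert (by decide), Finset.sum_pair (by decide), cnt_one, c2] at hs
    have h3 := cnt_ne_of_prime Nat.prime_three ((show (3 : ℕ) ∣ 6 by norm_num).trans hd)
    omega
  have hord : ∀ x : G, orderOf x ∈ ({1, 2, 3, 4, 8, 16} : Finset ℕ) := by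
    intro x
    have hd : orderOf x ∣ 48 := orderOf_dvd_of x fun p k hp hk => by
      rcases Nat.eq_zero_or_pos k with rfl | hk0
      · simp
      rcases hpr p hp (((dvd_pow_self p hk0.ne').trans hk).trans (orderOf_dvd_natCard x)) with rfl | rfl
      · exact (pow_dvd_pow 2 (pow_bound (k := 4) c32 hk)).trans (by norm_num)
      · exact (pow_dvd_pow 3 (pow_bound (k := 1) c9 hk)).trans (by norm_num)
    have h6 := not_dvd_orderOf c6 x
    have key : ∀ m ∈ (48 : ℕ).divisors, ¬ 6 ∣ m → m ∈ ({1, 2, 3, 4, 8, 16} : Finset ℕ) := by decide +kernel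
    exact key _ (Nat.mem_divisors.2 ⟨hd, by norm_num⟩) h6
  have hsum := sum_eq_card _ hord
  rw [Finset.sum_insert (by decide), Finset.sum_insert (by decide), Finset.sum_insert (by decide),
    Finset.sum_insert (by decide), Finset.sum_pair (by decide), cnt_one, c2] at hsum
  have z8 : cnt G 4 = 0 → cnt G 8 = 0 := cnt_eq_zero_of_dvd (by norm_num) (by norm_num)
  have z16 : cnt G 8 = 0 → cnt G 16 = 0 := cnt_eq_zero_of_dvd (by norm_num) (by norm_num)
  obtain ⟨x8, hx8⟩ := h.ex 8 (by decide)
  have hsome : cnt G 3 = 8 ∨ cnt G 4 = 8 := by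
    have := hord x8
    simp only [Finset.mem_insert, Finset.mem_singleton] at this
    rcases this with e | e | e | e | e | e <;> rw [e] at hx8
    · rw [cnt_one] at hx8; omega
    · omega
    · exact Or.inl hx8
    · exact Or.inr hx8
    · exact Or.inr (v4.resolve_left fun e4 => by have := z8 e4; omega)
    · exact Or.inr (v4.resolve_left fun e4 => by have := z16 (z8 e4); omega)
  have d3 : cnt G 3 = 8 → 3 ∣ Nat.card G := fun e => dvd_card_of_cnt_ne (by omega)
  have d8 : cnt G 8 = 8 → 8 ∣ Nat.card G := fun e => dvd_card_of_cnt_ne (by omega)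
  have h5 : ¬ 5 ∣ Nat.card G := fun hd => by
    have := hpr 5 (by norm_num) hd
    omega
  have h7 : ¬ 7 ∣ Nat.card G := fun hd => by
    have := hpr 7 (by norm_num) hd
    omega
  have h36 : Nat.card G ≠ 36 := fun hc => by
    have hs := dvd_sum_cnt (G := G) (show 4 ∣ Nat.card G by omega)
    rw [show (4 : ℕ).divisors = {1, 2, 4} by decide +kernel, Finset.sum_insert (by decide),
      Finset.sum_pair (by decide), cnt_one, c2] at hs
    have h8' : cnt G 8 = 0 := v8.resolve_right fun e => by
      have := d8 e
      omega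
    have := z16 h8'
    omega
  have d3' : 3 ∣ Nat.card G → cnt G 3 ≠ 0 := cnt_ne_of_prime Nat.prime_three
  rcases v4 with e4 | e4
  · have := z8 e4
    have := z16 this
    constructor <;> omega
  · rcases v8 with e8 | e8
    · have := z16 e8
      constructor
      · omega
      · omega
    · constructor <;> omega

/-- Recognition of the alternating group of degree four. -/
theorem iso_four (h : Sig G {1, 3, 8}) : Nonempty (G ≃* alternatingGroup (Fin 4)) := by
  classical
  obtain ⟨hG, c3⟩ := four_card h
  have := Fact.mk Nat.prime_three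
  have hP : ∀ P : Sylow 3 G, Nat.card (P : Subgroup G) = 3 := by
    intro P
    rw [P.card_eq_multiplicity, hG, show (12 : ℕ) = 3 * 4 from rfl, Nat.factorization_mul (by norm_num) (by norm_num),
      Finsupp.add_apply, Nat.Prime.factorization_self Nat.prime_three,
      Nat.factorization_eq_zero_of_not_dvd (by norm_num : ¬ 3 ∣ 4), add_zero, pow_one]
  have hn : Nat.card (Sylow 3 G) = 4 := by
    have := SmallOrder.card_orderOf_eq_mul hP
    change cnt G 3 = _ at this
    omega
  let e : Sylow 3 G ≃ Fin 4 := Finite.equivFinOfCardEq hn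
  let f : G →* Equiv.Perm (Fin 4) := e.permCongrHom.toMonoidHom.comp (MulAction.toPermHom G (Sylow 3 G))
  have hinj : Function.Injective f := by
    rw [injective_iff_map_eq_one]
    intro g hg
    have hall : ∀ Q : Sylow 3 G, g • Q = Q := fun Q => by
      have := congrArg (fun k : Equiv.Perm (Fin 4) => e.symm (k (e Q))) hg
      simpa [f] using this
    have hmem : ∀ Q : Sylow 3 G, g ∈ (Q : Subgroup G) := fun Q => by
      have hN : g ∈ normalizer ((Q : Subgroup G) : Set G) := Sylow.smul_eq_iff_mem_normalizer.1 (hall Q)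
      have hidx : (normalizer ((Q : Subgroup G) : Set G)).index = 4 := Q.card_eq_index_normalizer.symm.trans hn
      have hmul := (normalizer ((Q : Subgroup G) : Set G)).card_mul_index
      rw [hidx, hG] at hmul
      rwa [← eq_of_le_of_card_ge le_normalizer (by rw [hP]; omega)] at hN
    have : 1 < Nat.card (Sylow 3 G) := by omega
    obtain ⟨P, Q, hPQ⟩ := (Finite.one_lt_card_iff_nontrivial.1 this).exists_pair_ne
    by_contra hg1
    refine hPQ (Sylow.ext ?_)
    have hz : ∀ R : Sylow 3 G, zpowers g = (R : Subgroup G) := fun R => by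
      refine eq_of_le_of_card_ge (zpowers_le.2 (hmem R)) ?_
      rw [hP, Nat.card_zpowers]
      have hd := Subgroup.orderOf_mk g (hmem R) ▸ orderOf_dvd_natCard (⟨g, hmem R⟩ : (R : Subgroup G))
      rw [hP] at hd
      rw [((Nat.dvd_prime Nat.prime_three).1 hd).resolve_left (fun e1 => hg1 (orderOf_eq_one_iff.1 e1))]
    rw [← hz P, ← hz Q]
  have hidx : f.range.index = 2 := by
    have h1 := f.range.card_mul_index
    rw [Nat.card_congr (MonoidHom.ofInjective hinj).symm.toEquiv, hG, Nat.card_perm, Nat.card_fin,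
      show Nat.factorial 4 = 24 from rfl] at h1
    omega
  exact ⟨(MonoidHom.ofInjective hinj).trans (MulEquiv.subgroupCongr (Equiv.Perm.eq_alternatingGroup_of_index_eq_two hidx))⟩

end Cfsg.Agent.NSEAlt
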