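import Cfsg.Agent.NSEAlt.Basic
import Cfsg.Agent.SmallOrder.Order360

/-!
A group with the values 1, 45, 80, 90 and 144 is alternating of degree six.
-/

set_option autoImplicit false
set_option maxHeartbeats 1000000

namespace Cfsg.Agent.NSEAlt

open Subgroup
open Cfsg.Agent.NSEThree (cnt cnt_one cnt_pos totient_dvd_cnt dvd_sum_cnt)

universe u

theorem arith_two_group {N R k : ℕ} (hN : N = 136 + R) (hR : 16 ∣ R) (hp : N = 2 ^ k) : False := by
  have h4 : k < 4 := by
    by_contra hk
    have : (2 : ℕ) ^ 4 ∣ N := hp ▸ pow_dvd_pow 2 (not_lt.1 hk)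
    omega
  interval_cases k <;> norm_num at hp <;> omega

theorem arith_mod {N R c6 c9 c18 : ℕ} (hN : N = 216 + c6 + c9 + c18 + R) (hR : 16 ∣ R) (h8 : 8 ∣ N)
    (v6 : c6 = 0 ∨ c6 = 90 ∨ c6 = 144) (v9 : c9 = 0 ∨ c9 = 90 ∨ c9 = 144) (v18 : c18 = 0 ∨ c18 = 90 ∨ c18 = 144) :
    ¬ 16 ∣ N ∧ c6 ≠ 90 ∧ c9 ≠ 90 ∧ c18 ≠ 90 := by
  rcases v6 with rfl | rfl | rfl <;> rcases v9 with rfl | rfl | rfl <;> rcases v18 with rfl | rfl | rfl <;> omega

theorem arith_six_zero {c6 c12 : ℕ} (v6 : c6 = 0 ∨ c6 = 90 ∨ c6 = 144) (e : c12 = 80) :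
    ¬ 12 ∣ 1 + (45 + (80 + (90 + (c6 + c12)))) := by
  omega

theorem arith_final {b N c6 c8 c12 c24 : ℕ} (hb : b < 5) (hN : N = 216 + c6 + c8 + c12 + c24)
    (hp : N = 8 * 3 ^ b) (v6 : c6 = 0 ∨ c6 = 144) (v8 : c8 = 0 ∨ c8 = 80 ∨ c8 = 144)
    (v12 : c12 = 0 ∨ c12 = 144) (v24 : c24 = 0 ∨ c24 = 80 ∨ c24 = 144)
    (y6 : c6 = 0 → c12 = 0) (y8 : c8 = 0 → c24 = 0) (y12 : c12 = 0 → c24 = 0) (y81 : b = 4 → c24 = 0 → 81 ∣ c8)
    (occ : c6 = 144 ∨ c8 = 144 ∨ c12 = 144 ∨ c24 = 144) : False := by
  have y8' : c8 ≠ 0 ∨ c24 = 0 := (em (c8 = 0)).elim (fun e => Or.inr (y8 e)) Or.inl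
  have y12' : c12 ≠ 0 ∨ c24 = 0 := (em (c12 = 0)).elim (fun e => Or.inr (y12 e)) Or.inl
  have y81' : b ≠ 4 ∨ c24 ≠ 0 ∨ 81 ∣ c8 :=
    (em (b = 4)).elim (fun e => Or.inr ((em (c24 = 0)).elim (fun e' => Or.inr (y81 e e')) Or.inl)) Or.inl
  have y6' : c6 ≠ 0 ∨ c12 = 0 := (em (c6 = 0)).elim (fun e => Or.inr (y6 e)) Or.inl
  clear y6 y8 y12 y81
  interval_cases b <;> norm_num at hp <;> rcases v6 with rfl | rfl <;> rcases v12 with rfl | rfl <;>
    rcases v24 with rfl | rfl | rfl <;> omega

theorem arith_card {N R c6 c9 c18 : ℕ} (hN : N = 360 + c6 + c9 + c18 + R) (hR : 16 ∣ R)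
    (hc : N = 180 ∨ N = 360 ∨ N = 720) (v6 : c6 = 0 ∨ c6 = 80 ∨ c6 = 90 ∨ c6 = 144)
    (v9 : c9 = 0 ∨ c9 = 90 ∨ c9 = 144) (v18 : c18 = 0 ∨ c18 = 90 ∨ c18 = 144) : N = 360 := by
  rcases v6 with rfl | rfl | rfl | rfl <;> rcases v9 with rfl | rfl | rfl <;>
    rcases v18 with rfl | rfl | rfl <;> omega

variable {G : Type u} [Group G] [Finite G]

theorem six_two (h : Sig G {1, 45, 80, 90, 144}) : cnt G 2 = 45 :=
  h.two (by decide) (by decide) (by decide)

theorem six_primes (h : Sig G {1, 45, 80, 90, 144}) {p : ℕ} (hp : p.Prime) (hd : p ∣ Nat.card G) :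
    p = 2 ∨ p = 3 ∨ p = 5 ∨ p = 7 := by
  simpa using h.primes (T := {2, 3, 5, 7}) (B := 145) (by decide) (by decide +kernel) hp hd

theorem six_three (h : Sig G {1, 45, 80, 90, 144}) (hd : 3 ∣ Nat.card G) : cnt G 3 = 80 := by
  obtain ⟨v, hv, h1, h2, h3⟩ := h.prime Nat.prime_three hd
  simp only [Finset.mem_insert, Finset.mem_singleton] at hv
  omega

theorem six_five (h : Sig G {1, 45, 80, 90, 144}) (hd : 5 ∣ Nat.card G) : cnt G 5 = 144 := by
  obtain ⟨v, hv, h1, h2, h3⟩ := h.prime (by norm_num) hd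
  simp only [Finset.mem_insert, Finset.mem_singleton] at hv
  omega

theorem six_seven (h : Sig G {1, 45, 80, 90, 144}) (hd : 7 ∣ Nat.card G) : cnt G 7 = 90 := by
  obtain ⟨v, hv, h1, h2, h3⟩ := h.prime (by norm_num) hd
  simp only [Finset.mem_insert, Finset.mem_singleton] at hv
  omega

theorem six_no27 (h : Sig G {1, 45, 80, 90, 144}) : cnt G 27 = 0 := by
  by_contra hne
  have hd := dvd_card_of_cnt_ne hne
  have c3 := six_three h ((show (3 : ℕ) ∣ 27 by norm_num).trans hd)
  have h9 : cnt G 9 ≠ 0 := fun e => hne (cnt_eq_zero_of_dvd (by norm_num) (by norm_num) e)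
  have v9 : cnt G 9 = 90 ∨ cnt G 9 = 144 := by
    simpa [h9] using h.val_of (m := 9) (L := {90, 144}) (by decide +kernel)
  have v27 : cnt G 27 = 90 ∨ cnt G 27 = 144 := by
    simpa [hne] using h.val_of (m := 27) (L := {90, 144}) (by decide +kernel)
  have hs := dvd_sum_cnt (G := G) hd
  rw [show (27 : ℕ).divisors = {1, 3, 9, 27} by decide +kernel, Finset.sum_insert (by decide),
    Finset.sum_insert (by decide), Finset.sum_pair (by decide), cnt_one, c3] at hs
  omega

theorem six_orders (h : Sig G {1, 45, 80, 90, 144}) (x : G) : orderOf x ∣ 32 * 9 * 25 * 7 := by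
  refine orderOf_dvd_of x fun p k hp hk => ?_
  rcases Nat.eq_zero_or_pos k with rfl | hk0
  · simp
  rcases six_primes h hp (((dvd_pow_self p hk0.ne').trans hk).trans (orderOf_dvd_natCard x)) with
    rfl | rfl | rfl | rfl
  · exact (pow_dvd_pow 2 (pow_bound (k := 5) (h.zero (by decide +kernel)) hk)).trans (by norm_num)
  · exact (pow_dvd_pow 3 (pow_bound (k := 2) (six_no27 h) hk)).trans (by norm_num)
  · exact (pow_dvd_pow 5 (pow_bound (k := 2) (h.zero (by decide +kernel)) hk)).trans (by norm_num)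
  · exact (pow_dvd_pow 7 (pow_bound (k := 1) (h.zero (by decide +kernel)) hk)).trans (by norm_num)

theorem card_sylow_prime {p : ℕ} [hp : Fact p.Prime] (hd : p ∣ Nat.card G) (hsq : ¬ p ^ 2 ∣ Nat.card G)
    (P : Sylow p G) : Nat.card (P : Subgroup G) = p := by
  obtain ⟨k, hk⟩ := IsPGroup.iff_card.1 P.isPGroup'
  have h1 := P.dvd_card_of_dvd_card hd
  have h2 : p ^ k ∣ Nat.card G := hk ▸ card_subgroup_dvd_card _
  rcases Nat.lt_or_ge k 2 with hk2 | hk2
  · interval_cases k
    · rw [hk, pow_zero, Nat.dvd_one] at h1; exact absurd h1 hp.out.ne_one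
    · rw [hk, pow_one]
  · exact absurd ((pow_dvd_pow p hk2).trans h2) hsq

theorem six_no7 (h : Sig G {1, 45, 80, 90, 144}) : ¬ 7 ∣ Nat.card G := fun h7 => by
  have := Fact.mk (show Nat.Prime 7 by norm_num)
  have := Fact.mk (show Nat.Prime 5 by norm_num)
  have c2 := six_two h
  have c7 := six_seven h h7
  have c49 : cnt G 49 = 0 := h.zero (by decide +kernel)
  have hsq : ¬ 7 ^ 2 ∣ Nat.card G := fun hd => by
    have hs := dvd_sum_cnt (G := G) (show 49 ∣ Nat.card G by simpa using hd)
    rw [show (49 : ℕ).divisors = {1, 7, 49} by decide +kernel, Finset.sum_insert (by decide),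
      Finset.sum_pair (by decide), cnt_one, c7, c49] at hs
    omega
  obtain ⟨P⟩ : Nonempty (Sylow 7 G) := inferInstance
  have hP : IsCyclic (P : Subgroup G) := isCyclic_of_prime_card (card_sylow_prime h7 hsq P)
  have c14 : cnt G 14 = 0 := by
    by_contra hne
    have hd := cnt_dvd_cnt_mul (G := G) (p := 7) (m := 2) (by norm_num) (by norm_num) P hP
    have hv : cnt G 14 = 90 ∨ cnt G 14 = 144 := by
      simpa [hne] using h.val_of (m := 14) (L := {90, 144}) (by decide +kernel)
    rw [c7, show 7 * 2 = 14 from rfl] at hd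
    have hs := dvd_sum_cnt (G := G) (dvd_card_of_cnt_ne hne)
    rw [show (14 : ℕ).divisors = {1, 2, 7, 14} by decide +kernel, Finset.sum_insert (by decide),
      Finset.sum_insert (by decide), Finset.sum_pair (by decide), cnt_one, c2, c7] at hs
    omega
  have c21 : cnt G 21 = 0 := by
    by_contra hne
    have hd := cnt_dvd_cnt_mul (G := G) (p := 7) (m := 3) (by norm_num) (by norm_num) P hP
    have hv : cnt G 21 = 144 := by simpa [hne] using h.val_of (m := 21) (L := {144}) (by decide +kernel)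
    rw [c7, show 7 * 3 = 21 from rfl, hv] at hd
    norm_num at hd
  have c35 : cnt G 35 = 0 := by
    by_contra hne
    have hd := cnt_dvd_cnt_mul (G := G) (p := 7) (m := 5) (by norm_num) (by norm_num) P hP
    have hv : cnt G 35 = 144 := by simpa [hne] using h.val_of (m := 35) (L := {144}) (by decide +kernel)
    rw [c7, show 7 * 5 = 35 from rfl, hv] at hd
    norm_num at hd
  have hC : ∀ y g : G, orderOf y = 7 → Commute y g → g ^ 7 = 1 := fun y g hy hc => by
    refine pow_eq_one_of_commute (by norm_num) (by simpa using c49) (fun s hs hd hne => ?_) hy hc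
    rcases six_primes h hs hd with rfl | rfl | rfl | rfl
    · exact c14
    · exact c21
    · exact c35
    · exact absurd rfl hne
  obtain ⟨n, hn, hnd, hG⟩ := sylow_bound (p := 7) h7 hsq hC
  rw [c7] at hn
  rw [show n = 15 by omega] at hnd hG
  norm_num at hG
  have h5 : 5 ∣ Nat.card G := (show (5 : ℕ) ∣ 15 by norm_num).trans hnd
  have c5 := six_five h h5
  have h25 : ¬ 5 ^ 2 ∣ Nat.card G := fun hd => absurd (hd.trans hG) (by norm_num)
  have hn5 := SmallOrder.card_orderOf_eq_mul (card_sylow_prime (G := G) h5 h25)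
  change cnt G 5 = _ at hn5
  let Q : Sylow 5 G := default
  have hd : Nat.card (Sylow 5 G) ∣ Nat.card G := Q.card_eq_index_normalizer ▸ index_dvd_card _
  rw [show Nat.card (Sylow 5 G) = 36 by omega] at hd
  exact absurd (hd.trans hG) (by norm_num)

theorem six_five_dvd (h : Sig G {1, 45, 80, 90, 144}) : 5 ∣ Nat.card G := by
  by_contra h5
  have := Fact.mk Nat.prime_two
  have := Fact.mk Nat.prime_three
  have h7 := six_no7 h
  have c2 := six_two h
  have h2 : 2 ∣ Nat.card G := dvd_card_of_cnt_ne (by omega)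
  have v4 : cnt G 4 = 0 ∨ cnt G 4 = 80 ∨ cnt G 4 = 90 ∨ cnt G 4 = 144 := by
    simpa using h.val_of (m := 4) (L := {80, 90, 144}) (by decide +kernel)
  have hnot45 : ∀ P : Sylow 2 G, ¬ IsCyclic (P : Subgroup G) := fun P hP => by
    have := cnt_two_dvd_card P hP (by omega)
    rw [c2] at this
    exact h5 ((show (5 : ℕ) ∣ 45 by norm_num).trans this)
  have h4 : 4 ∣ Nat.card G := by
    by_contra hc
    let P : Sylow 2 G := default
    exact hnot45 P (isCyclic_of_prime_card (card_sylow_prime h2 (by simpa using hc) P))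
  have c4 : cnt G 4 = 90 := by
    have hs := dvd_sum_cnt (G := G) h4
    rw [show (4 : ℕ).divisors = {1, 2, 4} by decide +kernel, Finset.sum_insert (by decide),
      Finset.sum_pair (by decide), cnt_one, c2] at hs
    omega
  have h8 : 8 ∣ Nat.card G := by
    by_contra hc
    obtain ⟨x, hx⟩ := exists_of_cnt_ne (G := G) (m := 4) (by omega)
    obtain ⟨P, hP⟩ := (IsPGroup.of_card (n := 2) (by rw [Nat.card_zpowers, hx]; norm_num) :
      IsPGroup 2 (zpowers x)).exists_le_sylow
    refine hnot45 P ?_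
    have hPx : (P : Subgroup G) = zpowers x := by
      refine (eq_of_le_of_card_ge hP ?_).symm
      obtain ⟨k, hk⟩ := IsPGroup.iff_card.1 P.isPGroup'
      rw [hk, Nat.card_zpowers, hx]
      refine (Nat.pow_le_pow_right (by norm_num) ?_).trans (show 2 ^ 2 ≤ 4 by norm_num)
      by_contra hk3
      exact hc ((pow_dvd_pow 2 (by omega : 3 ≤ k)).trans (hk ▸ card_subgroup_dvd_card _))
    rw [hPx]
    infer_instance
  have hL : ∀ x : G, orderOf x ∈ ({1, 2, 3, 4, 6, 8, 9, 12, 16, 18, 24, 32, 36, 48, 72, 96, 144, 288} : Finset ℕ) := by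
    intro x
    have key : ∀ m ∈ (32 * 9 * 25 * 7 : ℕ).divisors, ¬ 5 ∣ m → ¬ 7 ∣ m →
        m ∈ ({1, 2, 3, 4, 6, 8, 9, 12, 16, 18, 24, 32, 36, 48, 72, 96, 144, 288} : Finset ℕ) := by decide +kernel
    exact key _ (Nat.mem_divisors.2 ⟨six_orders h x, by norm_num⟩) (fun e => h5 (e.trans (orderOf_dvd_natCard x)))
      (fun e => h7 (e.trans (orderOf_dvd_natCard x)))
  have hsum := sum_eq_card _ hL
  rw [Finset.sum_insert (by decide), Finset.sum_insert (by decide), Finset.sum_insert (by decide),
    Finset.sum_insert (by decide), Finset.sum_insert (by decide), Finset.sum_insert (by decide),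
    Finset.sum_insert (by decide), Finset.sum_insert (by decide), Finset.sum_insert (by decide),
    Finset.sum_insert (by decide), Finset.sum_insert (by decide), Finset.sum_insert (by decide),
    Finset.sum_insert (by decide), Finset.sum_insert (by decide), Finset.sum_insert (by decide),
    Finset.sum_insert (by decide), Finset.sum_pair (by decide), cnt_one, c2, c4,
    h.zero (m := 96) (by decide +kernel), h.zero (m := 288) (by decide +kernel)] at hsum
  have d16 : ∀ m, (({1, 45, 80, 90, 144} : Finset ℕ).filter fun v => m.totient ∣ v) ⊆ {80, 144} →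
      16 ∣ cnt G m := fun m hm => by
    rcases h.val m with e | e
    · rw [e]; exact dvd_zero _
    · have := hm e
      simp only [Finset.mem_insert, Finset.mem_singleton] at this
      omega
  have := d16 8 (by decide +kernel)
  have := d16 12 (by decide +kernel)
  have := d16 16 (by decide +kernel)
  have := d16 24 (by decide +kernel)
  have := d16 32 (by decide +kernel)
  have := d16 36 (by decide +kernel)
  have := d16 48 (by decide +kernel)
  have := d16 72 (by decide +kernel)
  have := d16 144 (by decide +kernel)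
  have v6' : cnt G 6 = 0 ∨ cnt G 6 = 80 ∨ cnt G 6 = 90 ∨ cnt G 6 = 144 := by
    simpa using h.val_of (m := 6) (L := {80, 90, 144}) (by decide +kernel)
  have v9 : cnt G 9 = 0 ∨ cnt G 9 = 90 ∨ cnt G 9 = 144 := by
    simpa using h.val_of (m := 9) (L := {90, 144}) (by decide +kernel)
  have v18 : cnt G 18 = 0 ∨ cnt G 18 = 90 ∨ cnt G 18 = 144 := by
    simpa using h.val_of (m := 18) (L := {90, 144}) (by decide +kernel)
  by_cases h3 : 3 ∣ Nat.card G
  case neg =>
    have z : ∀ m, 3 ∣ m → cnt G m = 0 := fun m hm => by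
      by_contra hne
      exact h3 (hm.trans (dvd_card_of_cnt_ne hne))
    have := z 3 dvd_rfl
    have := z 6 (by norm_num)
    have := z 9 (by norm_num)
    have := z 12 (by norm_num)
    have := z 18 (by norm_num)
    have := z 24 (by norm_num)
    have := z 36 (by norm_num)
    have := z 48 (by norm_num)
    have := z 72 (by norm_num)
    have := z 144 (by norm_num)
    have hp := Nat.eq_prime_pow_of_unique_prime_dvd (p := 2) Nat.card_pos.ne' (fun {d} hd hdd => by
      rcases six_primes h hd hdd with rfl | rfl | rfl | rfl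
      · rfl
      · exact absurd hdd h3
      · exact absurd hdd h5
      · exact absurd hdd h7)
    exact arith_two_group (R := cnt G 8 + cnt G 16 + cnt G 32)
      (by clear v4 v6' v9 v18; omega) (dvd_add (dvd_add (d16 8 (by decide +kernel)) (d16 16 (by decide +kernel)))
        (d16 32 (by decide +kernel))) hp
  have c3 := six_three h h3
  rw [c3] at hsum
  have c6' : cnt G 6 ≠ 80 := fun e => by
    have hs := dvd_sum_cnt (G := G) (dvd_card_of_cnt_ne (G := G) (m := 6) (by omega))
    rw [show (6 : ℕ).divisors = {1, 2, 3, 6} by decide +kernel, Finset.sum_insert (by decide),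
      Finset.sum_insert (by decide), Finset.sum_pair (by decide), cnt_one, c2, c3, e] at hs
    omega
  have v6 : cnt G 6 = 0 ∨ cnt G 6 = 90 ∨ cnt G 6 = 144 := v6'.imp id fun e => e.resolve_left c6'
  have h16 : ¬ 16 ∣ Nat.card G ∧ cnt G 6 ≠ 90 ∧ cnt G 9 ≠ 90 ∧ cnt G 18 ≠ 90 :=
    arith_mod (R := cnt G 8 + cnt G 12 + cnt G 16 + cnt G 24 + cnt G 32 + cnt G 36 + cnt G 48 + cnt G 72 + cnt G 144)
      (by clear v6' v9 v18 v6 v4; omega) (by clear v6' v9 v18 v6 v4 hsum; omega) h8 v6 v9 v18
  have z16 : ∀ m, 16 ∣ m → cnt G m = 0 := fun m hm => by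
    by_contra hne
    exact h16.1 (hm.trans (dvd_card_of_cnt_ne hne))
  have := z16 16 dvd_rfl
  have := z16 32 (by norm_num)
  have := z16 48 (by norm_num)
  have := z16 144 (by norm_num)
  obtain ⟨m, hm⟩ := h8
  have hm0 : m ≠ 0 := by
    rintro rfl
    exact Nat.card_pos.ne' (hm.trans (mul_zero 8))
  have hm3 := Nat.eq_prime_pow_of_unique_prime_dvd (p := 3) hm0 (fun {d} hd hdd => by
    have hdG : d ∣ Nat.card G := hm ▸ hdd.trans (dvd_mul_left m 8)
    rcases six_primes h hd hdG with rfl | rfl | rfl | rfl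
    · exfalso
      refine h16.1 (hm ▸ ?_)
      exact (mul_dvd_mul_left 8 hdd)
    · rfl
    · exact absurd hdG h5
    · exact absurd hdG h7)
  generalize m.primeFactorsList.length = b at hm3
  subst hm3
  have z27 : ∀ j, 27 ∣ j → cnt G j = 0 := fun j hj => by
    by_contra hne
    obtain ⟨x, hx⟩ := exists_of_cnt_ne hne
    exact not_dvd_orderOf (six_no27 h) x (hx ▸ hj)
  have c9 : cnt G 9 = 0 := by
    by_contra hne
    have hb : b < 3 := by
      by_contra hb
      have hd : 27 ∣ Nat.card G := hm ▸ (pow_dvd_pow 3 (not_lt.1 hb)).trans (dvd_mul_left _ 8)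
      have hs := dvd_sum_cnt (G := G) hd
      rw [show (27 : ℕ).divisors = {1, 3, 9, 27} by decide +kernel, Finset.sum_insert (by decide),
        Finset.sum_insert (by decide), Finset.sum_pair (by decide), cnt_one, c3, six_no27 h] at hs
      rcases v9 with e | e | e
      · exact hne e
      · exact h16.2.2.1 e
      · rw [e] at hs
        norm_num at hs
    have hle : Nat.card G ≤ 8 * 3 ^ 2 := by
      rw [hm]
      exact Nat.mul_le_mul_left 8 (Nat.pow_le_pow_right (by norm_num) (Nat.lt_succ_iff.1 hb))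
    have hge := sum_le_card (G := G) {1, 2, 3, 4}
    rw [Finset.sum_insert (by decide), Finset.sum_insert (by decide), Finset.sum_pair (by decide), cnt_one, c2, c3,
      c4] at hge
    norm_num at hle
    exact absurd (hge.trans hle) (by norm_num)
  have := cnt_eq_zero_of_dvd (G := G) (m := 18) (by norm_num) (by norm_num) c9
  have := cnt_eq_zero_of_dvd (G := G) (m := 36) (by norm_num) (by norm_num) c9
  have := cnt_eq_zero_of_dvd (G := G) (m := 72) (by norm_num) (by norm_num) c9
  have hb : b < 5 := by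
    by_contra hb
    have hd : 243 ∣ Nat.card G := hm ▸ (pow_dvd_pow 3 (not_lt.1 hb)).trans (dvd_mul_left _ 8)
    have hs := dvd_sum_cnt (G := G) hd
    rw [show (243 : ℕ).divisors = {1, 3, 9, 27, 81, 243} by decide +kernel, Finset.sum_insert (by decide),
      Finset.sum_insert (by decide), Finset.sum_insert (by decide), Finset.sum_insert (by decide),
      Finset.sum_pair (by decide), cnt_one, c3, c9, z27 27 dvd_rfl, z27 81 (by norm_num), z27 243 (by norm_num)] at hs
    norm_num at hs
  have v8 : cnt G 8 = 0 ∨ cnt G 8 = 80 ∨ cnt G 8 = 144 := by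
    simpa using h.val_of (m := 8) (L := {80, 144}) (by decide +kernel)
  have v12 : cnt G 12 = 0 ∨ cnt G 12 = 80 ∨ cnt G 12 = 144 := by
    simpa using h.val_of (m := 12) (L := {80, 144}) (by decide +kernel)
  have v24 : cnt G 24 = 0 ∨ cnt G 24 = 80 ∨ cnt G 24 = 144 := by
    simpa using h.val_of (m := 24) (L := {80, 144}) (by decide +kernel)
  have y12 : cnt G 12 = 0 → cnt G 24 = 0 := cnt_eq_zero_of_dvd (by norm_num) (by norm_num)
  have y6 : cnt G 6 = 0 → cnt G 12 = 0 := cnt_eq_zero_of_dvd (by norm_num) (by norm_num)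
  have y8 : cnt G 8 = 0 → cnt G 24 = 0 := cnt_eq_zero_of_dvd (by norm_num) (by norm_num)
  have c12' : cnt G 12 ≠ 80 := fun e => by
    have hne : cnt G 12 ≠ 0 := by rw [e]; norm_num
    have hs := dvd_sum_cnt (G := G) (dvd_card_of_cnt_ne (G := G) (m := 12) hne)
    rw [show (12 : ℕ).divisors = {1, 2, 3, 4, 6, 12} by decide +kernel, Finset.sum_insert (by decide),
      Finset.sum_insert (by decide), Finset.sum_insert (by decide), Finset.sum_insert (by decide),
      Finset.sum_pair (by decide), cnt_one, c2, c3, c4] at hs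
    exact arith_six_zero v6 e hs
  obtain ⟨x, hx⟩ := h.ex 144 (by decide)
  have occ : cnt G 6 = 144 ∨ cnt G 8 = 144 ∨ cnt G 12 = 144 ∨ cnt G 24 = 144 := by
    have hmem := hL x
    simp only [Finset.mem_insert, Finset.mem_singleton] at hmem
    clear v6' v6 v9 v18 v4 v8 v12 v24 hsum
    have := h.zero (m := 96) (by decide +kernel)
    have := h.zero (m := 288) (by decide +kernel)
    clear y12 y6 y8
    rcases hmem with e | e | e | e | e | e | e | e | e | e | e | e | e | e | e | e | e | e <;>
      rw [e] at hx <;> (try rw [cnt_one] at hx) <;> omega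
  have y81 : b = 4 → cnt G 24 = 0 → 81 ∣ cnt G 8 := fun hb4 e => by
    have := pow_dvd_cnt (G := G) (p := 3) (k := 4) (m := 8) Nat.prime_three
      (hm ▸ hb4 ▸ dvd_mul_left _ 8) (by norm_num) e
    simpa using this
  refine arith_final hb (by clear v6' v6 v9 v18 v4 v8 v12 v24 occ; omega) hm ?_ v8
    (v12.imp id fun e => e.resolve_left c12') v24 y6 y8 y12 y81 occ
  exact v6.imp id fun e => e.resolve_left h16.2.1

theorem six_three_dvd (h : Sig G {1, 45, 80, 90, 144}) : 3 ∣ Nat.card G := by
  by_contra h3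
  have := Fact.mk (show Nat.Prime 5 by norm_num)
  have h5 := six_five_dvd h
  have c5 := six_five h h5
  by_cases h25 : 25 ∣ Nat.card G
  · have hs := dvd_sum_cnt (G := G) h25
    rw [show (25 : ℕ).divisors = {1, 5, 25} by decide +kernel, Finset.sum_insert (by decide),
      Finset.sum_pair (by decide), cnt_one, c5] at hs
    have v25 : cnt G 25 = 0 ∨ cnt G 25 = 80 := by simpa using h.val_of (m := 25) (L := {80}) (by decide +kernel)
    have h125 : ¬ 125 ∣ Nat.card G := fun hd => by
      have hs := dvd_sum_cnt (G := G) hd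
      rw [show (125 : ℕ).divisors = {1, 5, 25, 125} by decide +kernel, Finset.sum_insert (by decide),
        Finset.sum_insert (by decide), Finset.sum_pair (by decide), cnt_one, c5,
        h.zero (m := 125) (by decide +kernel)] at hs
      omega
    have := root_bound (G := G) (p := 5) (show cnt G (5 ^ 2) ≠ 0 by norm_num; omega) (by simpa using h125)
    rw [c5, show (5 : ℕ) ^ 2 = 25 from rfl] at this
    omega
  · have hn5 := SmallOrder.card_orderOf_eq_mul (card_sylow_prime (G := G) h5 (by simpa using h25))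
    change cnt G 5 = _ at hn5
    let Q : Sylow 5 G := default
    have hd : Nat.card (Sylow 5 G) ∣ Nat.card G := Q.card_eq_index_normalizer ▸ index_dvd_card _
    rw [show Nat.card (Sylow 5 G) = 36 by omega] at hd
    exact h3 ((show (3 : ℕ) ∣ 36 by norm_num).trans hd)

theorem six_card (h : Sig G {1, 45, 80, 90, 144}) :
    Nat.card G = 360 ∧ cnt G 3 = 80 ∧ cnt G 5 = 144 ∧ cnt G 10 = 0 ∧
      ∀ y g : G, orderOf y = 5 → Commute y g → g ^ 5 = 1 := by
  have := Fact.mk (show Nat.Prime 5 by norm_num)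
  have h7 := six_no7 h
  have h5 := six_five_dvd h
  have h3 := six_three_dvd h
  have c2 := six_two h
  have c3 := six_three h h3
  have c5 := six_five h h5
  have c15 : cnt G 15 = 0 := by
    by_contra hne
    have hv : cnt G 15 = 80 ∨ cnt G 15 = 144 := by
      simpa [hne] using h.val_of (m := 15) (L := {80, 144}) (by decide +kernel)
    have hs := dvd_sum_cnt (G := G) (dvd_card_of_cnt_ne hne)
    rw [show (15 : ℕ).divisors = {1, 3, 5, 15} by decide +kernel, Finset.sum_insert (by decide),
      Finset.sum_insert (by decide), Finset.sum_pair (by decide), cnt_one, c3, c5] at hs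
    omega
  have h25 : ¬ 5 ^ 2 ∣ Nat.card G := fun hd => by
    have := pow_dvd_cnt (G := G) (m := 3) (by norm_num : Nat.Prime 5) hd (by norm_num) c15
    rw [c3] at this
    norm_num at this
  obtain ⟨P⟩ : Nonempty (Sylow 5 G) := inferInstance
  have c10 : cnt G 10 = 0 := by
    by_contra hne
    have hv : cnt G 10 = 80 ∨ cnt G 10 = 144 := by
      simpa [hne] using h.val_of (m := 10) (L := {80, 144}) (by decide +kernel)
    have hd := cnt_dvd_cnt_mul (G := G) (p := 5) (m := 2) (by norm_num) (by norm_num) P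
      (isCyclic_of_prime_card (card_sylow_prime h5 h25 P))
    rw [c5, show 5 * 2 = 10 from rfl] at hd
    have hs := dvd_sum_cnt (G := G) (dvd_card_of_cnt_ne hne)
    rw [show (10 : ℕ).divisors = {1, 2, 5, 10} by decide +kernel, Finset.sum_insert (by decide),
      Finset.sum_insert (by decide), Finset.sum_pair (by decide), cnt_one, c2, c5] at hs
    omega
  have hC : ∀ y g : G, orderOf y = 5 → Commute y g → g ^ 5 = 1 := fun y g hy hc => by
    refine pow_eq_one_of_commute (by norm_num) ?_ (fun s hs hd hne => ?_) hy hc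
    · by_contra hne
      exact h25 (dvd_card_of_cnt_ne hne)
    · rcases six_primes h hs hd with rfl | rfl | rfl | rfl
      · exact c10
      · exact c15
      · exact absurd rfl hne
      · exact absurd hd h7
  obtain ⟨n, hn, hnd, hG⟩ := sylow_bound (p := 5) h5 h25 hC
  rw [c5] at hn
  rw [show n = 36 by omega] at hnd hG
  norm_num at hG
  have hL : ∀ x : G, orderOf x ∈ ({1, 2, 3, 4, 5, 6, 8, 9, 12, 16, 18, 24, 36, 48, 72, 144} : Finset ℕ) := by
    intro x
    have key : ∀ m ∈ (720 : ℕ).divisors, ¬ 10 ∣ m → ¬ 15 ∣ m →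
        m ∈ ({1, 2, 3, 4, 5, 6, 8, 9, 12, 16, 18, 24, 36, 48, 72, 144} : Finset ℕ) := by decide +kernel
    exact key _ (Nat.mem_divisors.2 ⟨(orderOf_dvd_natCard x).trans hG, by norm_num⟩) (not_dvd_orderOf c10 x)
      (not_dvd_orderOf c15 x)
  have hsum := sum_eq_card _ hL
  rw [Finset.sum_insert (by decide), Finset.sum_insert (by decide), Finset.sum_insert (by decide),
    Finset.sum_insert (by decide), Finset.sum_insert (by decide), Finset.sum_insert (by decide),
    Finset.sum_insert (by decide), Finset.sum_insert (by decide), Finset.sum_insert (by decide),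
    Finset.sum_insert (by decide), Finset.sum_insert (by decide), Finset.sum_insert (by decide),
    Finset.sum_insert (by decide), Finset.sum_insert (by decide), Finset.sum_pair (by decide), cnt_one, c2, c3,
    c5] at hsum
  have hcard : Nat.card G = 180 ∨ Nat.card G = 360 ∨ Nat.card G = 720 := by
    have := Nat.le_of_dvd (by norm_num) hG
    obtain ⟨j, hj⟩ := hG
    obtain ⟨i, hi⟩ := h5
    obtain ⟨k, hk⟩ := hnd
    have : 270 ≤ Nat.card G := by omega
    have : j ≤ 2 := by nlinarith
    interval_cases j <;> omega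
  have h8 : 8 ∣ Nat.card G := by omega
  have v4 : cnt G 4 = 0 ∨ cnt G 4 = 80 ∨ cnt G 4 = 90 ∨ cnt G 4 = 144 := by
    simpa using h.val_of (m := 4) (L := {80, 90, 144}) (by decide +kernel)
  have c4 : cnt G 4 = 90 := by
    have hs := dvd_sum_cnt (G := G) ((show (4 : ℕ) ∣ 8 by norm_num).trans h8)
    rw [show (4 : ℕ).divisors = {1, 2, 4} by decide +kernel, Finset.sum_insert (by decide),
      Finset.sum_pair (by decide), cnt_one, c2] at hs
    omega
  have d16 : ∀ m, (({1, 45, 80, 90, 144} : Finset ℕ).filter fun v => m.totient ∣ v) ⊆ {80, 144} →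
      16 ∣ cnt G m := fun m hm => by
    rcases h.val m with e | e
    · rw [e]; exact dvd_zero _
    · have := hm e
      simp only [Finset.mem_insert, Finset.mem_singleton] at this
      omega
  have := d16 8 (by decide +kernel)
  have := d16 12 (by decide +kernel)
  have := d16 16 (by decide +kernel)
  have := d16 24 (by decide +kernel)
  have := d16 36 (by decide +kernel)
  have := d16 48 (by decide +kernel)
  have := d16 72 (by decide +kernel)
  have := d16 144 (by decide +kernel)
  have v6 : cnt G 6 = 0 ∨ cnt G 6 = 80 ∨ cnt G 6 = 90 ∨ cnt G 6 = 144 := by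
    simpa using h.val_of (m := 6) (L := {80, 90, 144}) (by decide +kernel)
  have v9 : cnt G 9 = 0 ∨ cnt G 9 = 90 ∨ cnt G 9 = 144 := by
    simpa using h.val_of (m := 9) (L := {90, 144}) (by decide +kernel)
  have v18 : cnt G 18 = 0 ∨ cnt G 18 = 90 ∨ cnt G 18 = 144 := by
    simpa using h.val_of (m := 18) (L := {90, 144}) (by decide +kernel)
  refine ⟨arith_card (R := cnt G 8 + cnt G 12 + cnt G 16 + cnt G 24 + cnt G 36 + cnt G 48 + cnt G 72 + cnt G 144)
    (by clear v4 v6 v9 v18 hcard; omega) (by clear v4 v6 v9 v18 hcard hsum; omega) hcard v6 v9 v18, c3, c5, c10, hC⟩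

theorem six_simple (h : Sig G {1, 45, 80, 90, 144}) : IsSimpleGroup G := by
  obtain ⟨hG, c3, c5, c10, hC⟩ := six_card h
  have := Fact.mk (show Nat.Prime 5 by norm_num)
  have h5 : 5 ∣ Nat.card G := by omega
  have hnt : Nontrivial G := Finite.one_lt_card_iff_nontrivial.1 (by omega)
  refine { eq_bot_or_eq_top_of_normal := fun N hN => ?_ }
  have hNG := card_subgroup_dvd_card N
  rw [hG] at hNG
  have hle := Nat.le_of_dvd (by norm_num) hNG
  have hpos : 0 < Nat.card N := Nat.card_pos
  have hidx : N.index * Nat.card N = 360 := by rw [mul_comm, N.card_mul_index, hG]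
  by_cases h5N : 5 ∣ Nat.card N
  · refine Or.inr (eq_top_of_card_eq N ?_)
    rw [hG]
    have h5c : Nat.Coprime 5 N.index := (show Nat.Prime 5 by norm_num).coprime_iff_not_dvd.2 fun hd => by
      have := mul_dvd_mul hd h5N
      rw [hidx] at this
      norm_num at this
    have e5 := cnt_le_normal N h5c
    have hsum := sum_le_card (G := N) {1, 5}
    rw [Finset.sum_pair (by decide), cnt_one, ← e5, c5] at hsum
    rcases eq_or_ne (Nat.card N) 180 with e180 | e180
    · exfalso
      have e3 := cnt_le_normal N (r := 3) (by rw [show N.index = 2 by rw [e180] at hidx; omega]; decide)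
      have hs := sum_le_card (G := N) {1, 3, 5}
      rw [Finset.sum_insert (by decide), Finset.sum_pair (by decide), cnt_one, ← e3, ← e5, c3, c5, e180] at hs
      omega
    · obtain ⟨j, hj⟩ := hNG
      have : j ≤ 2 := by nlinarith
      interval_cases j <;> omega
  · refine Or.inl (card_eq_one.1 ?_)
    have hm := card_normal_mod (p := 5) h5 N h5N hC
    have h6 : Nat.card N ≠ 6 := fun e6 => by
      have hd := dvd_cnt_normal (p := 5) h5 N (m := 2) (by norm_num) c10
      have := Fact.mk Nat.prime_three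
      have hne3 := cnt_ne_of_prime (G := N) Nat.prime_three (by rw [e6]; norm_num)
      have hne2 := cnt_ne_of_prime (G := N) Nat.prime_two (by rw [e6]; norm_num)
      have hs := sum_le_card (G := N) {1, 2, 3}
      rw [Finset.sum_insert (by decide), Finset.sum_pair (by decide), cnt_one, e6] at hs
      omega
    have h36 : Nat.card N ≠ 36 := fun e36 => by
      have e3 := cnt_le_normal N (r := 3) (by rw [show N.index = 10 by rw [e36] at hidx; omega]; decide)
      have hs := sum_le_card (G := N) {1, 3}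
      rw [Finset.sum_pair (by decide), cnt_one, ← e3, c3, e36] at hs
      omega
    have key : ∀ d ∈ (360 : ℕ).divisors, ¬ 5 ∣ d → 5 ∣ d - 1 → d ≠ 6 → d ≠ 36 → d = 1 := by decide +kernel
    exact key _ (Nat.mem_divisors.2 ⟨hNG, by norm_num⟩) h5N hm h6 h36

/-- Recognition of the alternating group of degree six. -/
theorem iso_six (h : Sig G {1, 45, 80, 90, 144}) : Nonempty (G ≃* alternatingGroup (Fin 6)) :=
  have := six_simple h
  SmallOrder.Order360.alt_six (six_card h).1

end Cfsg.Agent.NSEAlt
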